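import Cfsg.Agent.Lib.MonsterType.Move
import Cfsg.Agent.Lib.LocalEven.Subnormal

/-!
# The centraliser of a noncentral involution of `Q` is of Baby Monster type modulo the involution
-/

set_option autoImplicit false
set_option linter.style.haveILetI false
set_option linter.unusedSectionVars false

namespace Cfsg.Agent.Lib.MonsterType

open Cfsg Cfsg.Agent.Lib.Leech Cfsg.Agent.Lib.Compute
open scoped Pointwise commutatorElement

variable {G : Type*} [Group G] [Finite G] {z : G}
  {Q : Subgroup (Subgroup.centralizer ({z} : Set G))} [Q.Normal]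
  {e : (Subgroup.centralizer ({z} : Set G)) ⧸ Q ≃* Spor.Co1}
  {ψ : leechLattice → Q ⧸ Subgroup.center Q}

/-- A powers subgroup of an involution. -/
theorem mem_zpowers_two {H : Type*} [Group H] {T x : H} (hT : T * T = 1) (hx : x ∈ Subgroup.zpowers T) :
    x = 1 ∨ x = T := by
  obtain ⟨n, rfl⟩ := hx
  rcases Int.even_or_odd' n with ⟨k, rfl | rfl⟩
  · left; simp only []; rw [zpow_mul, show T ^ (2 : ℤ) = T * T from zpow_two T, hT, one_zpow]
  · right; simp only []; rw [zpow_add, zpow_mul, show T ^ (2 : ℤ) = T * T from zpow_two T, hT, one_zpow, one_mul, zpow_one]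

/-- Replace the lattice identification so that a given class becomes that of (4,4,0,...). -/
theorem normalise (hψ : IsLeechModTwoIso Q e ψ) {t : Q} {v : leechLattice}
    (hv : ψ v = QuotientGroup.mk t) (hn : sqNorm (v : GolayPt → ℤ) = 32) :
    ∃ (e' : (Subgroup.centralizer ({z} : Set G)) ⧸ Q ≃* Spor.Co1) (ψ' : leechLattice → Q ⧸ Subgroup.center Q),
      IsLeechModTwoIso Q e' ψ' ∧ ψ' Spor.leechU = QuotientGroup.mk t := by
  obtain ⟨h0, hh0⟩ := exists_co0_min Spor.leechU v (by show sqNorm Spor.vecU = 32; decide +kernel) hn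
  refine ⟨e.trans (MulAut.conj (QuotientGroup.mk h0 : Spor.Co1)⁻¹), fun w => ψ (h0 • w), ⟨?_, ?_, ?_, ?_⟩,
    by show ψ (h0 • Spor.leechU) = _; rw [hh0, hv]⟩
  · intro a b
    show ψ (h0 • (a + b)) = ψ (h0 • a) * ψ (h0 • b)
    rw [show h0 • (a + b) = h0 • a + h0 • b from map_add (co0Hom h0) a b, hψ.1]
  · intro q
    obtain ⟨w, hw⟩ := hψ.2.1 q
    exact ⟨h0⁻¹ • w, by show ψ (h0 • h0⁻¹ • w) = q; rw [smul_inv_smul, hw]⟩
  · intro w
    show ψ (h0 • w) = 1 ↔ _
    rw [hψ.2.2.1]
    constructor
    · rintro ⟨u, hu⟩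
      exact ⟨h0⁻¹ • u, by rw [show h0⁻¹ • u + h0⁻¹ • u = h0⁻¹ • (u + u) from (map_add (co0Hom h0⁻¹) u u).symm, ← hu, inv_smul_smul]⟩
    · rintro ⟨u, rfl⟩
      exact ⟨h0 • u, map_add (co0Hom h0) u u⟩
  · intro h g hhg w q hq
    show ψ (h0 • g • w) = _
    have he : (QuotientGroup.mk (h0 * g * h0⁻¹) : Spor.Co1) = e (QuotientGroup.mk h) := by
      rw [QuotientGroup.mk_mul, QuotientGroup.mk_mul, QuotientGroup.mk_inv, hhg]
      simp [mul_assoc]
    rw [← hψ.2.2.2 h (h0 * g * h0⁻¹) he (h0 • w) q hq, ← mul_smul, ← mul_smul, inv_mul_cancel_right]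

/-- An element commuting with everything commuting with `t` is central up to `t`. -/
theorem cent_cent (hE : Cfsg.IsExtraspecial 2 Q) {t x : Q} (ht : t ∉ Subgroup.center Q)
    (hx : ∀ y : Q, y * t = t * y → x * y = y * x) : x ∈ Subgroup.center Q ∨ t * x ∈ Subgroup.center Q := by
  by_cases hxc : x ∈ Subgroup.center Q
  · exact Or.inl hxc
  right
  set A := Subgroup.centralizer ({t} : Set Q)
  have hA2 : A.index = 2 := index_centralizer hE ht
  obtain ⟨u0, hu0⟩ : ∃ u : Q, u ∉ A := by
    by_contra h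
    push Not at h
    rw [show A = ⊤ from eq_top_iff.2 fun u _ => h u, Subgroup.index_top] at hA2
    omega
  refine Subgroup.mem_center_iff.2 fun u => ?_
  by_cases hu : u ∈ A
  · have h1 := Subgroup.mem_centralizer_singleton_iff.1 hu
    have h2 := hx u h1
    calc u * (t * x) = (u * t) * x := by group
      _ = t * (u * x) := by rw [h1, mul_assoc]
      _ = t * x * u := by rw [← h2, mul_assoc]
  · have hnt : u * t * u⁻¹ * t⁻¹ ≠ 1 := fun h =>
      hu (Subgroup.mem_centralizer_singleton_iff.2 (mul_inv_eq_iff_eq_mul.1 (mul_inv_eq_one.1 h)))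
    have hAx : A ≤ Subgroup.centralizer ({x} : Set Q) := fun y hy =>
      Subgroup.mem_centralizer_singleton_iff.2 (hx y (Subgroup.mem_centralizer_singleton_iff.1 hy)).symm
    have heq : A = Subgroup.centralizer ({x} : Set Q) := by
      refine Subgroup.eq_of_le_of_card_ge hAx ?_
      have e1 := A.card_mul_index
      have e2 := (Subgroup.centralizer ({x} : Set Q)).card_mul_index
      rw [hA2] at e1
      rw [index_centralizer hE hxc] at e2
      omega
    have hnx : u * x * u⁻¹ * x⁻¹ ≠ 1 := fun h =>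
      hu (heq ▸ Subgroup.mem_centralizer_singleton_iff.2 (mul_inv_eq_iff_eq_mul.1 (mul_inv_eq_one.1 h)))
    have he := ThreeTransp.extraspecial_center_eq (hE := hE) (comm_mem hE u t) (comm_mem hE u x) hnt hnx
    have hc := comm_mem hE u t
    have hsq := ThreeTransp.extraspecial_center_sq (hE := hE) hc
    set c := u * t * u⁻¹ * t⁻¹ with hcdef
    have h1 : u * t * u⁻¹ = c * t := by rw [hcdef]; group
    have h2 : u * x * u⁻¹ = c * x := by rw [he]; group
    calc u * (t * x) = (u * t * u⁻¹) * (u * x * u⁻¹) * u := by group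
      _ = c * (t * c) * x * u := by rw [h1, h2]; group
      _ = c ^ 2 * (t * x) * u := by rw [Subgroup.mem_center_iff.1 hc t, pow_two]; group
      _ = t * x * u := by rw [hsq, one_mul]

set_option maxHeartbeats 3200000 in
/-- The Baby Monster type of the centraliser of a noncentral involution of `Q` modulo it. -/
theorem baby_type (hs : IsExtraspecialCentralizerSetting z Q 12) (hψ0 : IsLeechModTwoIso Q e ψ) (tq : Q) (T : G)
    (hTdef : T = ((tq : Cz z) : G)) (hT : orderOf T = 2) (hnc : ¬ IsConj z T)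
    [hn : ((Subgroup.zpowers T).subgroupOf (Subgroup.centralizer ({T} : Set G))).Normal] :
    Cfsg.IsOfBabyMonsterType (↥(Subgroup.centralizer ({T} : Set G)) ⧸
      (Subgroup.zpowers T).subgroupOf (Subgroup.centralizer ({T} : Set G))) := by
  classical
  subst hTdef
  have hE := hs.2.2.1
  have hcard : Nat.card Q = 2 ^ 25 := hs.2.2.2.1
  haveI := finite_co0
  haveI : Fact (Nat.Prime 2) := ⟨Nat.prime_two⟩
  haveI : Fact (Nat.Prime 23) := ⟨by norm_num⟩
  obtain ⟨Z, hZz, hZc, hZ1, hZall⟩ := center_eq hs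
  obtain ⟨v, hv32, hv⟩ := class_of_not_conj hs hψ0 tq hT hnc
  obtain ⟨e', ψ, hψ, htU⟩ := normalise hψ0 hv hv32
  clear hv hv32 v hψ0
  set T : G := ((tq : Cz z) : G) with hTdef
  have hu32 : sqNorm (Spor.leechU : GolayPt → ℤ) = 32 := by show sqNorm Spor.vecU = 32; decide +kernel
  have hTT : T * T = 1 := by rw [← pow_two, ← hT, pow_orderOf_eq_one]
  have ht2 : tq * tq = 1 := Subtype.ext (Subtype.ext hTT)
  have htc : tq ∉ Subgroup.center Q := fun h =>
    cls_ne_zero (v := Spor.leechU) (by omega) (by omega) ((center_iff hE hψ htU).1 h)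
  have hT1 : T ≠ 1 := fun h => by rw [h, orderOf_one] at hT; omega
  have hTz : T ≠ z := fun h => hnc (by rw [h])
  have hz2 : z * z = 1 := by rw [← pow_two, ← hs.1, pow_orderOf_eq_one]
  have hTzc : T * z = z * T := Subgroup.mem_centralizer_singleton_iff.1 (tq : Cz z).2
  have hzne : z ≠ 1 := fun h => by have := hs.1; rw [h, orderOf_one] at this; omega
  have hzT : z * T ≠ 1 := fun h => hTz (by
    calc T = z * z * T := by rw [hz2, one_mul]
      _ = z := by rw [mul_assoc, h, mul_one])
  -- a conjugate of `z` is never `z * T`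
  have hno : ∀ c : G, c * z * c⁻¹ ≠ z * T := fun c hc => by
    refine not_short hE hψ hcard ⟨Z, hZz, hZc, hZ1, hZall⟩ (a := Z * tq) (v := Spor.leechU) ?_ (Or.inl hu32) c ?_
    · rw [htU, QuotientGroup.mk_mul, (QuotientGroup.eq_one_iff Z).2 hZc, one_mul]
    · rw [hc]; exact congrArg (fun w : G => w * T) hZz.symm
  -- the map onto the second Conway group
  let K : Subgroup G := Cz z ⊓ Subgroup.centralizer ({T} : Set G)
  let incl : K →* Cz z := Subgroup.inclusion inf_le_left
  let β : K →* Spor.Co1 := e'.toMonoidHom.comp ((QuotientGroup.mk' Q).comp incl)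
  let j : ↥Spor.Co2 →* ↥Co0 := Subgroup.inclusion inf_le_left
  have hjfix : ∀ g : ↥Spor.Co2, j g • Spor.leechU = Spor.leechU := fun g => g.2.2
  let f : ↥Spor.Co2 →* Spor.Co1 := (QuotientGroup.mk' (Subgroup.center ↥Co0)).comp j
  obtain ⟨n, hnc', hneg, hcases⟩ := exists_negation
  have hfinj : Function.Injective f := by
    rw [injective_iff_map_eq_one]
    intro x hx
    have hxc : j x ∈ Subgroup.center ↥Co0 := (QuotientGroup.eq_one_iff _).1 hx
    rcases hcases _ hxc with h | h
    · exact Subgroup.inclusion_injective _ (h.trans (map_one j).symm)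
    · exfalso
      have h1 := hjfix x
      rw [h, hneg] at h1
      have h2 := congrFun (congrArg Subtype.val h1) none
      simp only [AddSubgroup.coe_neg, Pi.neg_apply] at h2
      revert h2
      show -Spor.vecU none = Spor.vecU none → False
      decide
  have hrange : β.range = f.range := by
    ext x
    constructor
    · rintro ⟨k, rfl⟩
      obtain ⟨g0, hg0⟩ := QuotientGroup.mk_surjective (β k)
      have h1 := hψ.2.2.2 (incl k) g0 hg0 Spor.leechU tq htU
      have hfix : incl k * (tq : Cz z) * (incl k)⁻¹ = tq := Subtype.ext (by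
        show (k : G) * T * (k : G)⁻¹ = T
        rw [Subgroup.mem_centralizer_singleton_iff.1 k.2.2]; group)
      have h2 : ψ (g0 • Spor.leechU) = ψ Spor.leechU := by
        rw [h1, htU]; exact congrArg QuotientGroup.mk (Subtype.ext hfix)
      rcases eq_or_neg (by omega) (co0_sqNorm g0 Spor.leechU) ((psi_eq_iff hE hψ).1 h2) with h3 | h3
      · exact ⟨⟨(g0 : Equiv.Perm leechLattice), g0.2, h3⟩, hg0⟩
      · have h4 : (n * g0) • Spor.leechU = Spor.leechU := by rw [mul_smul, h3, hneg, neg_neg]
        refine ⟨⟨((n * g0 : ↥Co0) : Equiv.Perm leechLattice), (n * g0).2, h4⟩, ?_⟩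
        show (QuotientGroup.mk (n * g0) : Spor.Co1) = _
        rw [QuotientGroup.mk_mul, (QuotientGroup.eq_one_iff n).2 hnc', one_mul, hg0]
    · rintro ⟨g2, rfl⟩
      obtain ⟨h, hh⟩ := QuotientGroup.mk_surjective (e'.symm (f g2))
      have h1 := hψ.2.2.2 h (j g2) (by rw [hh, e'.apply_symm_apply]; rfl) Spor.leechU tq htU
      set a' : Q := ⟨h * tq * h⁻¹, (inferInstance : Q.Normal).conj_mem (tq : Cz z) tq.2 h⟩
      have h2 : (QuotientGroup.mk tq : Q ⧸ Subgroup.center Q) = QuotientGroup.mk a' := by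
        rw [← htU, ← h1, hjfix]
      have ha' : a' ∉ Subgroup.center Q := by
        rw [← QuotientGroup.eq_one_iff, ← h2, QuotientGroup.eq_one_iff]; exact htc
      obtain ⟨q, hq⟩ := conj_swap hE ha' h2.symm
      set k0 : Cz z := (q : Cz z) * h
      have hk0 : k0 * (tq : Cz z) * k0⁻¹ = tq := by
        conv_rhs => rw [← hq]
        simp only [k0, a', Subgroup.coe_mul, InvMemClass.coe_inv]
        group
      refine ⟨⟨(k0 : G), k0.2, Subgroup.mem_centralizer_singleton_iff.2 ?_⟩, ?_⟩
      · have := congrArg (fun x : Cz z => (x : G)) hk0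
        simp only [Subgroup.coe_mul, InvMemClass.coe_inv] at this
        exact mul_inv_eq_iff_eq_mul.1 this
      · show e' (QuotientGroup.mk k0) = _
        rw [QuotientGroup.mk_mul, (QuotientGroup.eq_one_iff (q : Cz z)).2 q.2, one_mul, hh, e'.apply_symm_apply]
  let β2 : K →* ↥Spor.Co2 := (MonoidHom.ofInjective hfinj).symm.toMonoidHom.comp
    ((MulEquiv.subgroupCongr hrange).toMonoidHom.comp β.rangeRestrict)
  have hfβ : ∀ k : K, f (β2 k) = β k := fun k => MonoidHom.apply_ofInjective_symm hfinj _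
  have hβ2s : Function.Surjective β2 := (MonoidHom.ofInjective hfinj).symm.surjective.comp
    ((MulEquiv.subgroupCongr hrange).surjective.comp β.rangeRestrict_surjective)
  have hβ2k : ∀ k : K, β2 k = 1 ↔ incl k ∈ Q := by
    intro k
    rw [← hfinj.eq_iff, hfβ, map_one, ← QuotientGroup.eq_one_iff]
    simp [β]
  -- the quotient
  set N := (Subgroup.zpowers T).subgroupOf (Subgroup.centralizer ({T} : Set G)) with hNdef
  have hmemN : ∀ c : Subgroup.centralizer ({T} : Set G), c ∈ N ↔ (c : G) = 1 ∨ (c : G) = T := by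
    intro c
    rw [hNdef, Subgroup.mem_subgroupOf]
    refine ⟨mem_zpowers_two hTT, ?_⟩
    rintro (h | h) <;> rw [h]
    · exact one_mem _
    · exact Subgroup.mem_zpowers T
  set zT : Subgroup.centralizer ({T} : Set G) :=
    ⟨z, Subgroup.mem_centralizer_singleton_iff.2 hTzc.symm⟩
  set zH : ↥(Subgroup.centralizer ({T} : Set G)) ⧸ N := QuotientGroup.mk zT with hzH
  let inclT : K →* Subgroup.centralizer ({T} : Set G) := Subgroup.inclusion inf_le_right
  let π : K →* Subgroup.centralizer ({zH} : Set (↥(Subgroup.centralizer ({T} : Set G)) ⧸ N)) :=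
    ((QuotientGroup.mk' N).comp inclT).codRestrict _ fun k => Subgroup.mem_centralizer_singleton_iff.2 (by
      show QuotientGroup.mk (inclT k) * QuotientGroup.mk zT = QuotientGroup.mk zT * QuotientGroup.mk (inclT k)
      rw [← QuotientGroup.mk_mul, ← QuotientGroup.mk_mul]
      exact congrArg _ (Subtype.ext (Subgroup.mem_centralizer_singleton_iff.1 k.2.1)))
  have hπ1 : ∀ k : K, π k = 1 ↔ (k : G) = 1 ∨ (k : G) = T := by
    intro k
    exact Subtype.ext_iff.trans ((QuotientGroup.eq_one_iff (inclT k)).trans (hmemN (inclT k)))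
  have hπs : Function.Surjective π := by
    rintro ⟨d, hd⟩
    obtain ⟨c, rfl⟩ := QuotientGroup.mk_surjective d
    have h1 := Subgroup.mem_centralizer_singleton_iff.1 hd
    rw [hzH, ← QuotientGroup.mk_mul, ← QuotientGroup.mk_mul, QuotientGroup.eq] at h1
    have hcT : (c : G) * T = T * c := Subgroup.mem_centralizer_singleton_iff.1 c.2
    rcases (hmemN _).1 h1 with h | h
    · have hcz : (c : G) * z = z * c := inv_mul_eq_one.1 h
      exact ⟨⟨(c : G), Subgroup.mem_centralizer_singleton_iff.2 hcz, c.2⟩, rfl⟩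
    · exfalso
      have h' : ((c : G) * z)⁻¹ * (z * (c : G)) = T := h
      apply hno (c : G)
      have h2 : z * (c : G) = (c : G) * z * T := by
        calc z * (c : G) = (c : G) * z * (((c : G) * z)⁻¹ * (z * (c : G))) := by group
          _ = (c : G) * z * T := by rw [h']
      calc (c : G) * z * (c : G)⁻¹ = ((c : G) * z * T) * T⁻¹ * (c : G)⁻¹ := by group
        _ = z * ((c : G) * T⁻¹) * (c : G)⁻¹ := by rw [← h2]; group
        _ = z * (T⁻¹ * (c : G)) * (c : G)⁻¹ := by rw [((show Commute (c : G) T from hcT).inv_right).eq]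
        _ = z * T := by rw [inv_eq_of_mul_eq_one_right hTT]; group
  have hkle : π.ker ≤ β2.ker := by
    intro k hk
    rw [MonoidHom.mem_ker, hβ2k]
    rcases (hπ1 k).1 hk with h | h
    · rw [show incl k = 1 from Subtype.ext h]; exact one_mem _
    · rw [show incl k = (tq : Cz z) from Subtype.ext h]; exact tq.2
  let δ : Subgroup.centralizer ({zH} : Set (↥(Subgroup.centralizer ({T} : Set G)) ⧸ N)) →* ↥Spor.Co2 :=
    π.liftOfSurjective hπs ⟨β2, hkle⟩
  have hδπ : ∀ k : K, δ (π k) = β2 k := fun k => MonoidHom.liftOfRightInverse_comp_apply _ _ _ _ k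
  have hδs : Function.Surjective δ := fun g => by
    obtain ⟨k, hk⟩ := hβ2s g
    exact ⟨π k, by rw [hδπ, hk]⟩
  have hRlift : ∀ r ∈ δ.ker, ∃ k : K, π k = r ∧ incl k ∈ Q := by
    intro r hr
    obtain ⟨k, rfl⟩ := hπs r
    rw [MonoidHom.mem_ker, hδπ, hβ2k] at hr
    exact ⟨k, rfl, hr⟩
  have hRmem : ∀ k : K, incl k ∈ Q → π k ∈ δ.ker := fun k hk => by
    rw [MonoidHom.mem_ker, hδπ, hβ2k]; exact hk
  -- lifting elements of `Q` commuting with the involution
  have hP : ∀ x : Q, x * tq = tq * x → ((x : Cz z) : G) ∈ K := fun x hx =>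
    ⟨(x : Cz z).2, Subgroup.mem_centralizer_singleton_iff.2 (congrArg (fun q : Q => ((q : Cz z) : G)) hx)⟩
  have hPc : ∀ k : K, ∀ hk : incl k ∈ Q, (⟨incl k, hk⟩ : Q) * tq = tq * ⟨incl k, hk⟩ := fun k hk =>
    Subtype.ext (Subtype.ext (Subgroup.mem_centralizer_singleton_iff.1 k.2.2))
  set zK : K := ⟨z, Subgroup.mem_centralizer_singleton_iff.2 rfl,
    Subgroup.mem_centralizer_singleton_iff.2 hTzc.symm⟩
  have hzKQ : incl zK ∈ Q := by
    rw [show incl zK = (Z : Cz z) from Subtype.ext hZz.symm]; exact Z.2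
  set Zr : δ.ker := ⟨π zK, hRmem zK hzKQ⟩
  have hZr1 : Zr ≠ 1 := fun h => by
    rcases (hπ1 zK).1 (congrArg Subtype.val h) with h' | h'
    · exact hzne h'
    · exact hTz h'.symm
  have hZrc : ∀ d, π zK * d = d * π zK := by
    intro d
    obtain ⟨k, rfl⟩ := hπs d
    rw [← map_mul, ← map_mul]
    exact congrArg π (Subtype.ext (Subgroup.mem_centralizer_singleton_iff.1 k.2.1).symm)
  have hZrC : Zr ∈ Subgroup.center δ.ker := Subgroup.mem_center_iff.2 fun r => Subtype.ext (hZrc r.1).symm
  -- central elements of Q lift to {1, Zr}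
  have hcenP : ∀ k : K, ∀ hk : incl k ∈ Q, (⟨incl k, hk⟩ : Q) ∈ Subgroup.center Q → π k = 1 ∨ π k = π zK := by
    intro k hk hc
    rcases hZall _ hc with h | h
    · left; rw [show k = 1 from Subtype.ext (congrArg (fun q : Q => ((q : Cz z) : G)) h), map_one]
    · right; rw [show k = zK from Subtype.ext ((congrArg (fun q : Q => ((q : Cz z) : G)) h).trans hZz)]
  have hcommR : ∀ x y : δ.ker, x * y * x⁻¹ * y⁻¹ = 1 ∨ x * y * x⁻¹ * y⁻¹ = Zr := by
    intro x y
    obtain ⟨kx, hkx, hkxQ⟩ := hRlift _ x.2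
    obtain ⟨ky, hky, hkyQ⟩ := hRlift _ y.2
    have hc := comm_mem hE (⟨incl kx, hkxQ⟩ : Q) ⟨incl ky, hkyQ⟩
    have := hcenP (kx * ky * kx⁻¹ * ky⁻¹)
      (by
        simp only [map_mul, map_inv]
        exact ((⟨incl kx, hkxQ⟩ : Q) * ⟨incl ky, hkyQ⟩ * (⟨incl kx, hkxQ⟩ : Q)⁻¹ * (⟨incl ky, hkyQ⟩ : Q)⁻¹).2)
      (by
        convert hc using 1
        exact Subtype.ext (by simp))
    simp only [map_mul, map_inv, hkx, hky] at this
    rcases this with h | h
    · exact Or.inl (Subtype.ext h)
    · exact Or.inr (Subtype.ext h)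
  have hsqR : ∀ x : δ.ker, x * x = 1 ∨ x * x = Zr := by
    intro x
    obtain ⟨kx, hkx, hkxQ⟩ := hRlift _ x.2
    have := hcenP (kx * kx) (by rw [map_mul]; exact mul_mem hkxQ hkxQ)
      (by
        convert sq_mem hE (⟨incl kx, hkxQ⟩ : Q) using 1
        exact Subtype.ext (map_mul incl kx kx))
    simp only [map_mul, hkx] at this
    rcases this with h | h
    · exact Or.inl (Subtype.ext h)
    · exact Or.inr (Subtype.ext h)
  have hcenR : ∀ x : δ.ker, x ∈ Subgroup.center δ.ker → x = 1 ∨ x = Zr := by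
    intro x hx
    obtain ⟨kx, hkx, hkxQ⟩ := hRlift _ x.2
    set X : Q := ⟨incl kx, hkxQ⟩
    have hX : ∀ y : Q, y * tq = tq * y → X * y = y * X := by
      intro y hy
      set ky : K := ⟨((y : Cz z) : G), hP y hy⟩
      have hkyQ : incl ky ∈ Q := y.2
      have hxy : π (kx * ky * kx⁻¹ * ky⁻¹) = 1 := by
        simp only [map_mul, map_inv, hkx]
        have h := congrArg Subtype.val (Subgroup.mem_center_iff.1 hx ⟨π ky, hRmem ky hkyQ⟩)
        simp only [Subgroup.coe_mul] at h
        rw [← h]; group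
      rcases hZall _ (comm_mem hE X y) with h | h
      · exact mul_inv_eq_iff_eq_mul.1 (mul_inv_eq_one.1 h)
      exfalso
      have hG : ((kx * ky * kx⁻¹ * ky⁻¹ : K) : G) = z :=
        (congrArg (fun q : Q => ((q : Cz z) : G)) h).trans hZz
      rcases (hπ1 _).1 hxy with h' | h'
      · exact hzne (hG.symm.trans h')
      · exact hTz (h'.symm.trans hG)
    rcases cent_cent hE htc hX with h | h
    · rcases hcenP kx hkxQ h with h' | h'
      · exact Or.inl (Subtype.ext (hkx.symm.trans h'))
      · exact Or.inr (Subtype.ext (hkx.symm.trans h'))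
    · set tK : K := ⟨T, (tq : Cz z).2, Subgroup.mem_centralizer_singleton_iff.2 rfl⟩
      have htK : π tK = 1 := (hπ1 tK).2 (Or.inr rfl)
      have := hcenP (tK * kx) (by rw [map_mul]; exact mul_mem tq.2 hkxQ)
        (by
          convert h using 1
          exact Subtype.ext (map_mul incl tK kx))
      simp only [map_mul, htK, one_mul, hkx] at this
      rcases this with h' | h'
      · exact Or.inl (Subtype.ext h')
      · exact Or.inr (Subtype.ext h')
  have hcardC : Nat.card (Subgroup.center δ.ker) = 2 := by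
    rw [Nat.card_eq_two_iff]
    refine ⟨⟨1, one_mem _⟩, ⟨Zr, hZrC⟩, fun h => hZr1 (congrArg Subtype.val h).symm, ?_⟩
    refine Set.eq_univ_of_forall fun x => ?_
    rcases hcenR x.1 x.2 with h | h
    · exact Or.inl (Subtype.ext h)
    · exact Or.inr (Subtype.ext h)
  -- orders
  have hco2 : IsSimpleGroup ↥Spor.Co2 ∧ Nat.card ↥Spor.Co2 = 42305421312000 := by
    obtain ⟨h1, h2⟩ := Cfsg.Agent.S0402.result Spor.leechU hu32
    let E : ↥Spor.Co2 ≃* ↥(MulAction.stabilizer ↥Co0 Spor.leechU) :=
      { toFun := fun g => ⟨j g, hjfix g⟩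
        invFun := fun g => ⟨((g : ↥Co0) : Equiv.Perm leechLattice), (g : ↥Co0).2, g.2⟩
        left_inv := fun g => rfl
        right_inv := fun g => rfl
        map_mul' := fun g h => rfl }
    haveI := h1
    exact ⟨E.isSimpleGroup, (Nat.card_congr E.toEquiv).trans h2⟩
  haveI hS := hco2.1
  haveI : Finite ↥Spor.Co2 := Nat.finite_of_card_ne_zero (by rw [hco2.2]; norm_num)
  have hπker : Nat.card π.ker = 2 := by
    rw [← Subgroup.card_map_of_injective K.subtype_injective, ← hT, ← Nat.card_zpowers]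
    congr 1
    have : π.ker.map K.subtype = Subgroup.zpowers T := by
      refine le_antisymm ?_ (Subgroup.zpowers_le.2 ?_)
      · rintro _ ⟨k, hk, rfl⟩
        show (k : G) ∈ Subgroup.zpowers T
        rcases (hπ1 k).1 hk with h | h <;> rw [h]
        · exact one_mem _
        · exact Subgroup.mem_zpowers T
      · exact ⟨⟨T, (tq : Cz z).2, Subgroup.mem_centralizer_singleton_iff.2 rfl⟩, (hπ1 _).2 (Or.inr rfl), rfl⟩
    rw [this]
  have hβker : Nat.card β2.ker = 2 ^ 24 := by
    have h := (Subgroup.centralizer ({tq} : Set Q)).card_mul_index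
    rw [index_centralizer hE htc, hcard] at h
    have e1 : Nat.card β2.ker = Nat.card (Subgroup.centralizer ({tq} : Set Q)) := Nat.card_congr
      { toFun := fun k => ⟨⟨incl k.1, (hβ2k k.1).1 k.2⟩, Subgroup.mem_centralizer_singleton_iff.2 (hPc _ _)⟩
        invFun := fun x => ⟨⟨((x.1 : Cz z) : G), hP x.1 (Subgroup.mem_centralizer_singleton_iff.1 x.2)⟩,
          (hβ2k _).2 x.1.2⟩
        left_inv := fun k => rfl
        right_inv := fun x => rfl }
    omega
  have hRcard : Nat.card δ.ker = 2 ^ 23 := by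
    have e1 := π.ker.card_mul_index
    rw [hπker, Subgroup.index_ker, MonoidHom.range_eq_top.2 hπs, Subgroup.card_top] at e1
    have e2 := β2.ker.card_mul_index
    rw [hβker, Subgroup.index_ker, MonoidHom.range_eq_top.2 hβ2s, Subgroup.card_top, ← e1] at e2
    have e3 := δ.ker.card_mul_index
    rw [Subgroup.index_ker, MonoidHom.range_eq_top.2 hδs, Subgroup.card_top] at e3
    rw [← e3, ← mul_assoc] at e2
    refine Nat.eq_of_mul_eq_mul_left (by norm_num : 0 < 2) ?_
    rw [← Nat.eq_of_mul_eq_mul_right Nat.card_pos e2]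
    norm_num
  have hR2 : IsPGroup 2 δ.ker := IsPGroup.of_card hRcard
  have hcR : commutator δ.ker = Subgroup.center δ.ker := by
    have hle : commutator δ.ker ≤ Subgroup.center δ.ker := by
      rw [commutator_def, Subgroup.commutator_le]
      intro x _ y _
      rw [commutatorElement_def]
      rcases hcommR x y with h | h <;> rw [h]
      · exact one_mem _
      · exact hZrC
    refine Subgroup.eq_of_le_of_card_ge hle ?_
    rw [hcardC]
    by_contra hlt
    have h1 : commutator δ.ker = ⊥ := Subgroup.card_eq_one.1 (by have := Nat.card_pos (α := commutator δ.ker); omega)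
    have h2 : Subgroup.center δ.ker = ⊤ := by
      rw [eq_top_iff]
      intro x _
      refine Subgroup.mem_center_iff.2 fun y => ?_
      have h3 : ⁅y, x⁆ ∈ commutator δ.ker := by
        rw [commutator_def]
        exact Subgroup.commutator_mem_commutator (Subgroup.mem_top _) (Subgroup.mem_top _)
      rw [h1, Subgroup.mem_bot, commutatorElement_def] at h3
      exact mul_inv_eq_iff_eq_mul.1 (mul_inv_eq_one.1 h3)
    rw [h2, Subgroup.card_top, hRcard] at hcardC
    norm_num at hcardC
  have hfR : frattini δ.ker = Subgroup.center δ.ker := by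
    haveI : Group.IsNilpotent δ.ker := hR2.isNilpotent
    refine le_antisymm (Cfsg.Agent.Lib.LocalEven.frattini_le_of_quotient_elementary (p := 2) hcR.le ?_)
      (hcR ▸ Cfsg.Agent.Lib.Cores.commutator_le_frattini)
    intro x
    rw [pow_two]
    rcases hsqR x with h | h <;> rw [h]
    · exact one_mem _
    · exact hZrC
  -- elements acting trivially
  have hcentR : Subgroup.centralizer (δ.ker : Set _) ≤ δ.ker := by
    rcases (Subgroup.Normal.map (inferInstance : (Subgroup.centralizer (δ.ker : Set _)).Normal) δ hδs).eq_bot_or_eq_top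
      with h | h
    · exact (Subgroup.map_eq_bot_iff _).1 h
    exfalso
    have hd : 23 ∣ Nat.card K := by
      have := Subgroup.card_range_dvd β2
      rw [MonoidHom.range_eq_top.2 hβ2s, Subgroup.card_top, hco2.2] at this
      exact (by norm_num : 23 ∣ 42305421312000).trans this
    obtain ⟨k, hk⟩ := exists_prime_orderOf_dvd_card' (G := K) 23 hd
    obtain ⟨c, hc, hcδ⟩ : δ (π k) ∈ (Subgroup.centralizer (δ.ker : Set _)).map δ := h ▸ Subgroup.mem_top _
    set r := c⁻¹ * π k
    have hr : r ∈ δ.ker := by rw [MonoidHom.mem_ker, map_mul, map_inv, hcδ, inv_mul_cancel]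
    have hk23 : k ^ 23 = 1 := by rw [← hk, pow_orderOf_eq_one]
    -- iteration
    have iter : ∀ p u : K, k * p * k⁻¹ = u * p → k * u = u * k → u ^ 23 = 1 := by
      intro p u h1 h2
      have hm : ∀ m : ℕ, k ^ m * p * (k ^ m)⁻¹ = u ^ m * p := by
        intro m
        induction m with
        | zero => simp
        | succ m ih =>
          have h3 : k * u ^ m = u ^ m * k := (Commute.pow_right h2 m).eq
          calc k ^ (m + 1) * p * (k ^ (m + 1))⁻¹ = k * (k ^ m * p * (k ^ m)⁻¹) * k⁻¹ := by rw [pow_succ']; group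
            _ = k * u ^ m * p * k⁻¹ := by rw [ih]; group
            _ = u ^ m * (k * p * k⁻¹) := by rw [h3]; group
            _ = u ^ (m + 1) * p := by rw [h1, pow_succ]; group
      have h4 := hm 23
      rw [hk23, one_mul, inv_one, mul_one] at h4
      exact right_eq_mul.1 h4
    have two23 : ∀ u : K, incl u ∈ Q → u ^ 23 = 1 → u = 1 := by
      intro u hu h23
      obtain ⟨m, hm⟩ := hE.1.1 ⟨incl u, hu⟩
      have h1 : u ^ 2 ^ m = 1 := Subtype.ext (congrArg (fun q : Q => ((q : Cz z) : G)) hm)
      have h2 := pow_gcd_eq_one.2 ⟨h1, h23⟩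
      rwa [show Nat.gcd (2 ^ m) 23 = 1 from Nat.Coprime.pow_left m (by norm_num), pow_one] at h2
    have hPfix : ∀ p : K, incl p ∈ Q → k * p = p * k := by
      intro p hp
      have h1 : π (k * p * k⁻¹ * p⁻¹) = 1 ∨ π (k * p * k⁻¹ * p⁻¹) = π zK := by
        simp only [map_mul, map_inv]
        have hcc : π k * π p * (π k)⁻¹ = r * π p * r⁻¹ := by
          have hc' : c * (r * π p * r⁻¹) = (r * π p * r⁻¹) * c :=
            (hc _ (mul_mem (mul_mem hr (hRmem p hp)) (inv_mem hr))).symm
          calc π k * π p * (π k)⁻¹ = c * (r * π p * r⁻¹) * c⁻¹ := by simp only [r]; group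
            _ = r * π p * r⁻¹ := by rw [hc']; group
        rw [hcc]
        rcases hcommR ⟨r, hr⟩ ⟨π p, hRmem p hp⟩ with h | h
        · exact Or.inl (congrArg Subtype.val h)
        · exact Or.inr (congrArg Subtype.val h)
      set u := k * p * k⁻¹ * p⁻¹ with hu
      have hu4 : (u : G) = 1 ∨ (u : G) = T ∨ (u : G) = z ∨ (u : G) = z * T := by
        rcases h1 with h | h
        · rcases (hπ1 u).1 h with h' | h'
          · exact Or.inl h'
          · exact Or.inr (Or.inl h')
        · have h2 : π (zK⁻¹ * u) = 1 := by rw [map_mul, map_inv, h, inv_mul_cancel]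
          rcases (hπ1 _).1 h2 with h' | h'
          · exact Or.inr (Or.inr (Or.inl (inv_mul_eq_one.1 h').symm))
          · exact Or.inr (Or.inr (Or.inr (inv_mul_eq_iff_eq_mul.1 h')))
      have hkz : (k : G) * z = z * k := Subgroup.mem_centralizer_singleton_iff.1 k.2.1
      have hkT : (k : G) * T = T * k := Subgroup.mem_centralizer_singleton_iff.1 k.2.2
      have hku : k * u = u * k := Subtype.ext (by
        show (k : G) * (u : G) = (u : G) * k
        rcases hu4 with h | h | h | h <;> rw [h]
        · group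
        · exact hkT
        · exact hkz
        · exact ((show Commute (k : G) z from hkz).mul_right hkT).eq)
      have huQ : incl u ∈ Q := by
        rw [hu, map_mul, map_mul, map_mul, map_inv, map_inv]
        exact mul_mem ((inferInstance : Q.Normal).conj_mem _ hp _) (inv_mem hp)
      have := two23 u huQ (iter p u (by rw [hu]; group) hku)
      rw [hu] at this
      exact mul_inv_eq_iff_eq_mul.1 (mul_inv_eq_one.1 this)
    have hQfix : ∀ x : Q, incl k * (x : Cz z) = (x : Cz z) * incl k := by
      intro x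
      set x' : Q := ⟨incl k * x * (incl k)⁻¹, (inferInstance : Q.Normal).conj_mem (x : Cz z) x.2 _⟩
      have hiff : x' ∈ Subgroup.centralizer ({tq} : Set Q) ↔ x ∈ Subgroup.centralizer ({tq} : Set Q) := by
        rw [Subgroup.mem_centralizer_singleton_iff, Subgroup.mem_centralizer_singleton_iff]
        have hkT : incl k * (tq : Cz z) = tq * incl k := Subtype.ext (Subgroup.mem_centralizer_singleton_iff.1 k.2.2)
        have hcj : incl k * (tq : Cz z) * (incl k)⁻¹ = tq := by rw [hkT]; group
        constructor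
        · intro h
          have h' : incl k * (x : Cz z) * (incl k)⁻¹ * (tq : Cz z) = tq * (incl k * x * (incl k)⁻¹) := congrArg Subtype.val h
          apply Subtype.ext
          show (x : Cz z) * tq = tq * x
          have h'' : incl k * ((x : Cz z) * tq) * (incl k)⁻¹ = incl k * ((tq : Cz z) * x) * (incl k)⁻¹ := by
            calc incl k * ((x : Cz z) * tq) * (incl k)⁻¹
                = incl k * (x : Cz z) * (incl k)⁻¹ * (incl k * (tq : Cz z) * (incl k)⁻¹) := by group
              _ = (incl k * (tq : Cz z) * (incl k)⁻¹) * (incl k * x * (incl k)⁻¹) := by rw [hcj, h']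
              _ = _ := by group
          exact mul_left_cancel (mul_right_cancel h'')
        · intro h
          have h' : (x : Cz z) * tq = tq * x := congrArg Subtype.val h
          apply Subtype.ext
          show incl k * (x : Cz z) * (incl k)⁻¹ * (tq : Cz z) = tq * (incl k * x * (incl k)⁻¹)
          calc incl k * (x : Cz z) * (incl k)⁻¹ * (tq : Cz z)
              = incl k * (x : Cz z) * (incl k)⁻¹ * (incl k * (tq : Cz z) * (incl k)⁻¹) := by rw [hcj]
            _ = incl k * ((x : Cz z) * tq) * (incl k)⁻¹ := by group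
            _ = (incl k * (tq : Cz z) * (incl k)⁻¹) * (incl k * x * (incl k)⁻¹) := by rw [h']; group
            _ = _ := by rw [hcj]
      have hu : x' * x⁻¹ ∈ Subgroup.centralizer ({tq} : Set Q) :=
        (Subgroup.mul_mem_iff_of_index_two (index_centralizer hE htc)).2 (by rw [inv_mem_iff]; exact hiff)
      set u : K := ⟨(((x' * x⁻¹ : Q) : Cz z) : G), hP _ (Subgroup.mem_centralizer_singleton_iff.1 hu)⟩
      have huQ : incl u ∈ Q := (x' * x⁻¹).2
      have hku : k * u = u * k := hPfix u huQ
      have hm : ∀ m : ℕ, incl k ^ m * (x : Cz z) * (incl k ^ m)⁻¹ = incl u ^ m * x := by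
        intro m
        induction m with
        | zero => simp
        | succ m ih =>
          have h2 : incl k * incl u = incl u * incl k := by rw [← map_mul, hku, map_mul]
          have h3 : incl k * incl u ^ m = incl u ^ m * incl k := (Commute.pow_right h2 m).eq
          have h1 : incl k * (x : Cz z) * (incl k)⁻¹ = incl u * x := by
            show _ = ((x' * x⁻¹ : Q) : Cz z) * x
            simp [x']
          calc incl k ^ (m + 1) * (x : Cz z) * (incl k ^ (m + 1))⁻¹
              = incl k * (incl k ^ m * x * (incl k ^ m)⁻¹) * (incl k)⁻¹ := by rw [pow_succ']; group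
            _ = incl k * incl u ^ m * x * (incl k)⁻¹ := by rw [ih]; group
            _ = incl u ^ m * (incl k * x * (incl k)⁻¹) := by rw [h3]; group
            _ = incl u ^ (m + 1) * x := by rw [h1, pow_succ]; group
      have h4 := hm 23
      rw [← map_pow, hk23, map_one, one_mul, inv_one, mul_one, ← map_pow] at h4
      have h5 := two23 u huQ (Subgroup.inclusion_injective _ ((right_eq_mul.1 h4).trans (map_one incl).symm))
      have h6 : x' = x := mul_inv_eq_one.1 (Subtype.ext (Subtype.ext (congrArg (fun w : K => (w : G)) h5)))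
      exact mul_inv_eq_iff_eq_mul.1 (congrArg Subtype.val h6)
    have hkQ : incl k ∈ Q := by
      have h1 := Components.centralizer_genFitting_le (G := Cz z)
        (show incl k ∈ Subgroup.centralizer (generalizedFittingSubgroup (Cz z) : Set (Cz z)) by
          rw [hs.2.1]
          exact fun y hy => (hQfix ⟨y, hy⟩).symm)
      rwa [hs.2.1] at h1
    have := two23 k hkQ hk23
    rw [this, orderOf_one] at hk
    omega
  have hFle : fittingSubgroup _ ≤ δ.ker := by
    haveI := Cores.fittingSubgroup_isNilpotent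
      (Subgroup.centralizer ({zH} : Set (↥(Subgroup.centralizer ({T} : Set G)) ⧸ N)))
    rcases (Subgroup.Normal.map (Cores.fittingSubgroup_normal _) δ hδs).eq_bot_or_eq_top with h | h
    · exact (Subgroup.map_eq_bot_iff _).1 h
    exfalso
    have h1 : Group.IsNilpotent (⊤ : Subgroup ↥Spor.Co2) := by
      rw [← h]
      exact Group.nilpotent_of_surjective (δ.subgroupMap _) (δ.subgroupMap_surjective _)
    haveI : Group.IsNilpotent ↥Spor.Co2 :=
      Group.nilpotent_of_surjective (Subgroup.topEquiv (G := ↥Spor.Co2)).toMonoidHom Subgroup.topEquiv.surjective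
    have hc : Subgroup.center ↥Spor.Co2 = ⊤ := by
      have hsol : Group.IsSolvable ↥Spor.Co2 := inferInstance
      have hcomm := (IsSimpleGroup.comm_iff_isSolvable (G := ↥Spor.Co2)).2 hsol
      exact eq_top_iff.2 fun x _ => Subgroup.mem_center_iff.2 fun y => hcomm y x
    let inst : CommGroup ↥Spor.Co2 := Group.commGroupOfCenterEqTop hc
    have := IsSimpleGroup.prime_card (α := ↥Spor.Co2)
    rw [hco2.2] at this
    norm_num at this
  have hRF : δ.ker ≤ fittingSubgroup _ := Cores.le_fittingSubgroup inferInstance hR2.isNilpotent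
  have hgF : generalizedFittingSubgroup _ = δ.ker := le_antisymm
    (Components.genFitting_le_of_centralizer_le hFle hcentR) (hRF.trans Components.fitting_le_genFitting)
  have hzH2 : orderOf zH = 2 := by
    refine orderOf_eq_prime ?_ ?_
    · rw [hzH, ← QuotientGroup.mk_pow, show zT ^ 2 = 1 from Subtype.ext (by
        rw [pow_two]; exact hz2), QuotientGroup.mk_one]
    · intro h
      rw [hzH, QuotientGroup.eq_one_iff, hmemN] at h
      rcases h with h | h
      · exact hzne h
      · exact hTz h.symm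
  -- the module
  have hperp : ∀ x : leechPerpU, (ψ (x : leechLattice)).out * tq = tq * (ψ (x : leechLattice)).out := by
    intro x
    rw [comm_iff hs hψ htU hu32 ht2 (QuotientGroup.out_eq' _).symm]
    exact x.2
  let lift : (q : Q) → q * tq = tq * q → δ.ker := fun q hq => ⟨π ⟨((q : Cz z) : G), hP q hq⟩, hRmem _ q.2⟩
  have hwd : ∀ (p q : Q) (hp : p * tq = tq * p) (hq : q * tq = tq * q),
      (QuotientGroup.mk p : Q ⧸ Subgroup.center Q) = QuotientGroup.mk q →
      (QuotientGroup.mk (lift p hp) : δ.ker ⧸ Subgroup.center δ.ker) = QuotientGroup.mk (lift q hq) := by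
    intro p q hp hq h
    rw [QuotientGroup.eq] at h ⊢
    have := hcenP ((⟨((p : Cz z) : G), hP p hp⟩ : K)⁻¹ * ⟨((q : Cz z) : G), hP q hq⟩)
      (by rw [map_mul, map_inv]; exact mul_mem (inv_mem p.2) q.2) (by convert h using 1; exact Subtype.ext (Subtype.ext rfl))
    simp only [map_mul, map_inv] at this
    rcases this with h' | h'
    · rw [show (lift p hp)⁻¹ * lift q hq = 1 from Subtype.ext h']; exact one_mem _
    · rw [show (lift p hp)⁻¹ * lift q hq = Zr from Subtype.ext h']; exact hZrC
  let Ψ : leechPerpU → δ.ker ⧸ Subgroup.center δ.ker := fun x => QuotientGroup.mk (lift _ (hperp x))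
  obtain ⟨g, hgT, hgne, hgc, hgQ⟩ := exists_move hs hψ tq hT hnc
  set gT : Subgroup.centralizer ({T} : Set G) :=
    ⟨g, Subgroup.mem_centralizer_singleton_iff.2 (mul_inv_eq_iff_eq_mul.1 hgT)⟩
  have hconjK : g * z * g⁻¹ ∈ K := ⟨hgc, (Subgroup.centralizer ({T} : Set G)).mul_mem
    ((Subgroup.centralizer ({T} : Set G)).mul_mem gT.2 zT.2) (inv_mem gT.2)⟩
  have hgH : (QuotientGroup.mk gT : ↥(Subgroup.centralizer ({T} : Set G)) ⧸ N) * zH * (QuotientGroup.mk gT)⁻¹ =
      (π ⟨_, hconjK⟩).1 := by
    rfl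
  refine ⟨zH, δ.ker, inferInstance, ⟨hzH2, hgF, ⟨⟨hR2, hfR, hcR⟩, hcardC⟩, hRcard, QuotientGroup.mk gT,
      ⟨hgH ▸ (π ⟨_, hconjK⟩).2, ?_⟩, ?_⟩,
    QuotientGroup.quotientKerEquivOfSurjective δ hδs, Ψ, ?_, ?_, ?_, ?_⟩
  · rw [show (⟨_, hgH ▸ (π ⟨_, hconjK⟩).2⟩ : Subgroup.centralizer ({zH} : Set _)) = π ⟨_, hconjK⟩ from Subtype.ext hgH]
    exact hRmem _ hgQ
  · rw [hgH]
    intro h
    have h1 : π ⟨_, hconjK⟩ = π zK := Subtype.ext h
    have h2 : π (zK⁻¹ * ⟨_, hconjK⟩) = 1 := by rw [map_mul, map_inv, h1, inv_mul_cancel]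
    rcases (hπ1 _).1 h2 with h' | h'
    · exact hgne (inv_mul_eq_one.1 h').symm
    · exact hno g (inv_mul_eq_iff_eq_mul.1 h')
  · intro x y
    show Ψ (x + y) = Ψ x * Ψ y
    have hc : ((ψ (x : leechLattice)).out * (ψ (y : leechLattice)).out) * tq =
        tq * ((ψ (x : leechLattice)).out * (ψ (y : leechLattice)).out) :=
      (show Commute _ tq from (show Commute _ tq from hperp x).mul_left (hperp y)).eq
    refine (hwd _ _ (hperp (x + y)) hc ?_).trans ?_
    · rw [QuotientGroup.mk_mul, QuotientGroup.out_eq', QuotientGroup.out_eq', QuotientGroup.out_eq',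
        AddSubgroup.coe_add, hψ.1]
    · rw [← QuotientGroup.mk_mul]
      exact congrArg _ (Subtype.ext (map_mul π ⟨_, hP _ (hperp x)⟩ ⟨_, hP _ (hperp y)⟩))
  · intro r
    obtain ⟨r, rfl⟩ := QuotientGroup.mk_surjective r
    obtain ⟨k, hk, hkQ⟩ := hRlift _ r.2
    obtain ⟨w, hw⟩ := hψ.2.1 (QuotientGroup.mk (⟨incl k, hkQ⟩ : Q))
    have hwp : w ∈ leechPerpU := (comm_iff hs hψ htU hu32 ht2 hw).1 (hPc k hkQ)
    refine ⟨⟨w, hwp⟩, (hwd _ _ (hperp ⟨w, hwp⟩) (hPc k hkQ) ?_).trans (congrArg _ (Subtype.ext ?_))⟩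
    · rw [QuotientGroup.out_eq']; exact hw
    · exact hk
  · intro x
    have hout : ψ (x : leechLattice) = QuotientGroup.mk (ψ (x : leechLattice)).out := (QuotientGroup.out_eq' _).symm
    have hsub : ∀ w, (∃ u : leechLattice, (x : leechLattice) = w + (u + u)) ↔ ψ (x : leechLattice) = ψ w := by
      intro w
      have h : ψ (x : leechLattice) = ψ ((x : leechLattice) - w) * ψ w := by rw [← hψ.1, sub_add_cancel]
      rw [h, mul_eq_right, hψ.2.2.1]
      exact exists_congr fun u => by rw [sub_eq_iff_eq_add']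
    have h0 : (∃ w : leechLattice, (x : leechLattice) = w + w) ↔ ψ (x : leechLattice) = ψ 0 := by
      rw [← hsub]; simp
    rw [h0, hsub, psi_zero hE hψ, htU]
    show (QuotientGroup.mk (lift _ (hperp x)) : δ.ker ⧸ Subgroup.center δ.ker) = 1 ↔ _
    rw [QuotientGroup.eq_one_iff]
    constructor
    · intro h
      rcases hcenR _ h with h' | h'
      · rcases (hπ1 _).1 (congrArg Subtype.val h') with h'' | h''
        · left
          rw [hout, show (ψ (x : leechLattice)).out = 1 from Subtype.ext (Subtype.ext h''), QuotientGroup.mk_one]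
        · right
          rw [hout, show (ψ (x : leechLattice)).out = tq from Subtype.ext (Subtype.ext h'')]
      · have h2 : π (zK⁻¹ * ⟨_, hP _ (hperp x)⟩) = 1 := by
          rw [map_mul, map_inv, show π ⟨_, hP _ (hperp x)⟩ = π zK from congrArg Subtype.val h', inv_mul_cancel]
        rcases (hπ1 _).1 h2 with h'' | h''
        · left
          rw [hout, show (ψ (x : leechLattice)).out = Z from
            Subtype.ext (Subtype.ext ((inv_mul_eq_one.1 h'').symm.trans hZz.symm))]
          exact (QuotientGroup.eq_one_iff Z).2 hZc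
        · right
          rw [hout, show (ψ (x : leechLattice)).out = Z * tq from Subtype.ext (Subtype.ext (by
            show _ = ((Z : Cz z) : G) * T
            rw [hZz]; exact inv_mul_eq_iff_eq_mul.1 h''))]
          rw [QuotientGroup.mk_mul, (QuotientGroup.eq_one_iff Z).2 hZc, one_mul]
    · rintro (h | h)
      · have := hwd _ 1 (hperp x) (by rw [one_mul, mul_one]) (by rw [← hout, h, QuotientGroup.mk_one])
        rw [← QuotientGroup.eq_one_iff, this, show lift 1 (by rw [one_mul, mul_one]) = 1 from Subtype.ext (map_one π), QuotientGroup.mk_one]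
      · have := hwd _ tq (hperp x) rfl (hout.symm.trans h)
        rw [← QuotientGroup.eq_one_iff, this,
          show lift tq rfl = 1 from Subtype.ext ((hπ1 _).2 (Or.inr rfl)), QuotientGroup.mk_one]
  · intro h g0 hg x y hxy q hq
    obtain ⟨k, rfl⟩ := hπs h
    have hg' : β2 k = g0 := (hδπ k).symm.trans hg
    set r := (ψ (x : leechLattice)).out
    set r' : Q := ⟨incl k * r * (incl k)⁻¹, (inferInstance : Q.Normal).conj_mem (r : Cz z) r.2 _⟩
    have h1 := hψ.2.2.2 (incl k) (j g0) (by rw [← hg']; exact hfβ k) (x : leechLattice) r (QuotientGroup.out_eq' _).symm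
    have hr' : r' * tq = tq * r' := by
      apply Subtype.ext
      apply Subtype.ext
      show (k : G) * ((r : Cz z) : G) * (k : G)⁻¹ * T = T * ((k : G) * ((r : Cz z) : G) * (k : G)⁻¹)
      have hrT : ((r : Cz z) : G) * T = T * ((r : Cz z) : G) := congrArg (fun q : Q => ((q : Cz z) : G)) (hperp x)
      have hkT : Commute (k : G) T := Subgroup.mem_centralizer_singleton_iff.1 k.2.2
      exact ((hkT.mul_left hrT).mul_left hkT.inv_left).eq
    have hy : ψ (y : leechLattice) = QuotientGroup.mk r' := by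
      rw [← hxy]; exact h1
    show Ψ y = _
    refine (hwd _ r' (hperp y) hr' ((QuotientGroup.out_eq' _).trans hy)).trans ?_
    rw [QuotientGroup.eq]
    have hcq : (lift r (hperp x))⁻¹ * q ∈ Subgroup.center δ.ker := QuotientGroup.eq.1 hq
    rcases hcenR _ hcq with h' | h'
    · convert one_mem (Subgroup.center δ.ker)
      refine Subtype.ext ?_
      have hqv : (q : Subgroup.centralizer ({zH} : Set _)) = π ⟨_, hP _ (hperp x)⟩ :=
        (congrArg Subtype.val (inv_mul_eq_one.1 h')).symm
      show (π ⟨_, hP r' hr'⟩)⁻¹ * (π k * (q : Subgroup.centralizer ({zH} : Set _)) * (π k)⁻¹) = 1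
      rw [hqv, inv_mul_eq_one, ← map_inv, ← map_mul, ← map_mul]
      exact congrArg π (Subtype.ext rfl)
    · convert hZrC
      refine Subtype.ext ?_
      have hqv : (q : Subgroup.centralizer ({zH} : Set _)) = π ⟨_, hP _ (hperp x)⟩ * π zK :=
        congrArg Subtype.val (inv_mul_eq_iff_eq_mul.1 h')
      show (π ⟨_, hP r' hr'⟩)⁻¹ * (π k * (q : Subgroup.centralizer ({zH} : Set _)) * (π k)⁻¹) = π zK
      rw [hqv, inv_mul_eq_iff_eq_mul]
      calc π k * (π ⟨_, hP r (hperp x)⟩ * π zK) * (π k)⁻¹
          = π k * π ⟨_, hP r (hperp x)⟩ * (π zK * (π k)⁻¹) := by group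
        _ = π k * π ⟨_, hP r (hperp x)⟩ * (π k)⁻¹ * π zK := by rw [hZrc]; group
        _ = π ⟨_, hP r' hr'⟩ * π zK := by
          rw [← map_inv, ← map_mul, ← map_mul]
          rfl

end Cfsg.Agent.Lib.MonsterType
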