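import Cfsg.Agent.Lib.Leech.StabBase
import Cfsg.Agent.Lib.Compute.Leech
import Cfsg.Prelude.Def_Spor_Conway
import Cfsg.Agent.S0402
import Cfsg.Agent.S0403

/-!
# Facts about the lattice modulo 2 and about elements of order 23 of the first Conway group
-/

set_option autoImplicit false
set_option linter.style.haveILetI false

namespace Cfsg.Agent.Lib.MonsterType

open Cfsg Equiv Cfsg.Agent.Lib.Compute Cfsg.Agent.Lib.Leech Cfsg.Agent.Lib.M24Geom

/-- Negation inside the automorphism group. -/
theorem exists_negation : ∃ n ∈ Subgroup.center ↥Co0, (∀ v : ↥leechLattice, n • v = -v) ∧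
    ∀ c ∈ Subgroup.center ↥Co0, c = 1 ∨ c = n := by
  obtain ⟨n, hn⟩ := exists_mono 1 (one_mem _) Finset.univ Cfsg.Spor.univ_mem_supports_golayCode
  have hneg : ∀ v : ↥leechLattice, n • v = -v := fun v => Subtype.ext (by
    rw [hn, AddSubgroup.coe_neg]
    funext q
    simp [signedPerm, Equiv.Perm.one_symm])
  have hne : n ≠ 1 := fun e => by
    have := congrFun (congrArg Subtype.val (hneg (eightAt none))) none
    rw [e, one_smul] at this
    simp [eightAt] at this
  have hmem : n ∈ Subgroup.center ↥Co0 := Subgroup.mem_center_iff.2 fun g => co0_ext fun v => by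
    rw [mul_smul, mul_smul, hneg, hneg, co0_neg]
  refine ⟨n, hmem, hneg, fun c hc => ?_⟩
  obtain ⟨a, b, hab, huniv⟩ := Nat.card_eq_two_iff.1 Cfsg.Agent.Lib.Leech.card_center
  have key : ∀ x : Subgroup.center ↥Co0, x = ⟨1, one_mem _⟩ ∨ x = ⟨n, hmem⟩ := by
    intro x
    have hx : x ∈ ({a, b} : Set (Subgroup.center ↥Co0)) := huniv ▸ Set.mem_univ x
    have h1 : (⟨1, one_mem _⟩ : Subgroup.center ↥Co0) ∈ ({a, b} : Set (Subgroup.center ↥Co0)) :=
      huniv ▸ Set.mem_univ _
    have h2 : (⟨n, hmem⟩ : Subgroup.center ↥Co0) ∈ ({a, b} : Set (Subgroup.center ↥Co0)) :=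
      huniv ▸ Set.mem_univ _
    have h12 : (⟨n, hmem⟩ : Subgroup.center ↥Co0) ≠ ⟨1, one_mem _⟩ := fun e => hne (congrArg Subtype.val e)
    simp only [Set.mem_insert_iff, Set.mem_singleton_iff] at hx h1 h2
    rcases h1 with h1 | h1 <;> rcases h2 with h2 | h2 <;> rcases hx with hx | hx <;>
      first
        | exact Or.inl (hx.trans h1.symm)
        | exact Or.inr (hx.trans h2.symm)
        | exact absurd (h2.trans h1.symm) h12
  rcases key ⟨c, hc⟩ with h | h
  · exact Or.inl (congrArg Subtype.val h)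
  · exact Or.inr (congrArg Subtype.val h)

/-- A signed frame vector. -/
noncomputable def sgn (p : Prop) [Decidable p] (i : GolayPt) : ↥leechLattice :=
  if p then -eightAt i else eightAt i

theorem sgn_inj {p q : Prop} [Decidable p] [Decidable q] {i j : GolayPt} (h : sgn p i = sgn q j) :
    i = j ∧ (p ↔ q) := by
  have h1 := congrFun (congrArg Subtype.val h) i
  unfold sgn eightAt at h1
  by_cases hp : p <;> by_cases hq : q <;> by_cases hij : i = j <;>
    simp [hp, hq, hij] at h1 ⊢

/-- An element commuting with an element of order 23, with central square, is central. -/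
theorem mem_center_of_commute_shift (h : ↥Co0) (hc : permHom shiftE * h = h * permHom shiftE)
    (hh : h * h ∈ Subgroup.center ↥Co0) : h ∈ Subgroup.center ↥Co0 := by
  classical
  obtain ⟨n, hnc, hn, hcases⟩ := exists_negation
  set a : GolayPt := enc.symm 23 with ha
  -- normalise so as to fix the frame vector
  suffices key : ∀ h : ↥Co0, permHom shiftE * h = h * permHom shiftE → h * h ∈ Subgroup.center ↥Co0 →
      h • eightAt a = eightAt a → h = 1 by
    have hu : permHom shiftE • (h • eightAt a) = h • eightAt a := by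
      rw [← mul_smul, hc, mul_smul, permHom_eightAt, shiftE_fix]
    rcases shift_fixed hu (by rw [co0_sqNorm]; exact sqNorm_eightAt _) with e | e
    · rw [key h hc hh e]; exact one_mem _
    · have hnh : n * h = h * n := (Subgroup.mem_center_iff.1 hnc h).symm
      have hnn : n * n = 1 := co0_ext fun v => by rw [mul_smul, hn, hn, neg_neg, one_smul]
      have := key (n * h) (by
          rw [← mul_assoc, Subgroup.mem_center_iff.1 hnc (permHom shiftE), mul_assoc, hc, mul_assoc]) (by
          rw [show n * h * (n * h) = n * n * (h * h) by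
            rw [mul_assoc n h, ← mul_assoc h n, ← hnh]; group, hnn, one_mul]
          exact hh)
        (by rw [mul_smul, e, hn, neg_neg])
      rw [show h = n⁻¹ from eq_inv_of_mul_eq_one_right this]
      exact inv_mem hnc
  intro h hc hh hfix
  obtain ⟨π, hπ, c, hcsup, happ⟩ := exists_frame_of_eight h a ⟨a, Or.inl hfix⟩
  have himg : ∀ i, h • eightAt i = sgn (π i ∈ c) (π i) := by
    intro i
    refine Subtype.ext ((happ _).trans ?_)
    show signedPerm π c (Pi.single i 8) = _
    rw [signedPerm_single]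
    unfold sgn
    split_ifs with hpi
    · rw [AddSubgroup.coe_neg, Pi.single_neg]; rfl
    · rfl
  have hsgn : ∀ (p : Prop) [Decidable p] (i : GolayPt),
      permHom shiftE • sgn p i = sgn p ((shiftE : Perm GolayPt) i) := by
    intro p _ i
    unfold sgn
    split_ifs
    · rw [co0_neg, permHom_eightAt]
    · rw [permHom_eightAt]
  have hcom : ∀ i, π ((shiftE : Perm GolayPt) i) = (shiftE : Perm GolayPt) (π i) ∧
      (π ((shiftE : Perm GolayPt) i) ∈ c ↔ π i ∈ c) := by
    intro i
    refine sgn_inj ?_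
    rw [← himg, ← hsgn, ← himg, ← permHom_eightAt, ← mul_smul, ← mul_smul, hc]
  have hpa : π a = a ∧ a ∉ c := by
    have h1 := himg a
    rw [hfix] at h1
    have h2 : sgn False a = sgn (π a ∈ c) (π a) := by
      rw [← h1]; simp [sgn]
    obtain ⟨e1, e2⟩ := sgn_inj h2
    exact ⟨e1.symm, fun hm => e2.2 (e1 ▸ hm)⟩
  obtain ⟨hpa, hac⟩ := hpa
  have hh1 : h * h = 1 := by
    rcases hcases _ hh with e | e
    · exact e
    · exfalso
      have h1 : (h * h) • eightAt a = eightAt a := by rw [mul_smul, hfix, hfix]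
      rw [e, hn] at h1
      have := congrFun (congrArg Subtype.val h1) a
      simp [eightAt] at this
  have hπ2 : ∀ i, π (π i) = i := by
    intro i
    have h1 : (h * h) • eightAt i = sgn False i := by rw [hh1, one_smul]; simp [sgn]
    rw [mul_smul, himg] at h1
    by_cases hm : π i ∈ c
    · have h3 : h • (-eightAt (π i)) = sgn False i := by
        simpa [sgn, hm] using h1
      rw [co0_neg, himg] at h3
      have h4 : sgn (¬ π (π i) ∈ c) (π (π i)) = sgn False i := by
        rw [← h3]
        by_cases hm2 : π (π i) ∈ c <;> simp [sgn, hm2]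
      exact (sgn_inj h4).1
    · have h3 : h • eightAt (π i) = sgn False i := by simpa [sgn, hm] using h1
      rw [himg] at h3
      exact (sgn_inj h3).1
  haveI : Fact (Nat.Prime 23) := ⟨by norm_num⟩
  have hπ1 : π = 1 := by
    have hmem := shiftE_comm ⟨π, hπ⟩ (Subtype.ext (Equiv.ext fun i => (hcom i).1))
    have h2 : (⟨π, hπ⟩ : ↥M24) ^ 2 = 1 := by
      refine Subtype.ext (Equiv.ext fun i => ?_)
      simpa [pow_two] using hπ2 i
    have hd1 : orderOf (⟨π, hπ⟩ : ↥M24) ∣ 23 := orderOf_shiftE ▸ orderOf_dvd_of_mem_zpowers hmem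
    have hd2 : orderOf (⟨π, hπ⟩ : ↥M24) ∣ 2 := orderOf_dvd_of_pow_eq_one h2
    have := Nat.dvd_gcd hd1 hd2
    norm_num at this
    exact this
  have hc0 : c = ∅ := by
    let f : GolayPt → ℤ := fun q => if q ∈ c then 1 else 0
    have hf : ∀ q, f ((shiftE : Perm GolayPt) q) = f q := by
      intro q
      have h1 := (hcom q).2
      rw [hπ1] at h1
      simp only [Equiv.Perm.one_apply] at h1
      simp only [f, h1]
    have hsame : ∀ i : Fin 24, (i : ℕ) ≠ 23 → f (enc.symm i) = f (enc.symm 0) := by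
      intro i hi
      obtain ⟨-, -, -, -, hch⟩ := shift_ok
      simp only [List.all_eq_true, List.mem_range, beq_iff_eq] at hch
      exact const_chain (elemOk_spec (by norm_num) shift_ok.1).1 f hf i 0 i (hch i (by omega))
    by_contra hne
    obtain ⟨x, hx⟩ := Finset.nonempty_iff_ne_empty.2 hne
    have h0 : f (enc.symm 0) = 1 := by
      obtain ⟨i, rfl⟩ := enc.symm.surjective x
      rw [← hsame i (fun e => hac (by rw [ha, ← show i = 23 from Fin.ext e]; exact hx))]
      simp [f, hx]
    have hc23 : c = Finset.univ.erase a := by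
      ext y
      rw [Finset.mem_erase]
      refine ⟨fun hy => ⟨fun e => hac (e ▸ hy), Finset.mem_univ _⟩, fun ⟨hy, _⟩ => ?_⟩
      obtain ⟨i, rfl⟩ := enc.symm.surjective y
      have h1 := hsame i (fun e => hy (by rw [ha, show i = 23 from Fin.ext e]))
      rw [h0] at h1
      by_contra hn'
      simp [f, hn'] at h1
    obtain ⟨w, hw, hwc⟩ := hcsup
    have h23 : hammingNorm w = 23 := by
      rw [show hammingNorm w = (support₂ w).card from rfl, hwc, hc23, Finset.card_erase_of_mem (Finset.mem_univ _)]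
      decide
    rcases hammingNorm_mem_golayCode hw with e | e | e | e | e <;> omega
  refine co0_ext fun v => ?_
  rw [happ, hπ1, hc0, one_smul]
  funext q
  simp [signedPerm, Equiv.Perm.one_symm]

/-- The first Conway group has no element of order 23 commuting with an involution. -/
theorem co1_no_commuting (a b : Spor.Co1) (ha : orderOf a = 23) (hb : orderOf b = 2) (hab : a * b = b * a) :
    False := by
  haveI := finite_co0
  haveI : Fact (Nat.Prime 23) := ⟨by norm_num⟩
  obtain ⟨n, hnc, hn, hcases⟩ := exists_negation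
  have hc2 : ∀ c ∈ Subgroup.center ↥Co0, c ^ 2 = 1 := by
    intro c hc
    rcases hcases c hc with rfl | rfl
    · exact one_pow _
    · exact co0_ext fun v => by rw [pow_two, mul_smul, hn, hn, neg_neg, one_smul]
  obtain ⟨g0, rfl⟩ := QuotientGroup.mk_surjective a
  obtain ⟨h, rfl⟩ := QuotientGroup.mk_surjective b
  set g := g0 ^ 2 with hg
  have hgm : (QuotientGroup.mk g : Spor.Co1) = (QuotientGroup.mk g0 : Spor.Co1) ^ 2 := QuotientGroup.mk_pow _ _ _
  have hg23 : orderOf g = 23 := by
    refine orderOf_eq_prime ?_ ?_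
    · have h1 : g0 ^ 23 ∈ Subgroup.center ↥Co0 := by
        rw [← QuotientGroup.eq_one_iff, QuotientGroup.mk_pow, ← ha, pow_orderOf_eq_one]
      rw [hg, ← pow_mul, mul_comm 2 23, pow_mul]
      exact hc2 _ h1
    · intro e
      rw [e, QuotientGroup.mk_one] at hgm
      have := orderOf_dvd_of_pow_eq_one hgm.symm
      rw [ha] at this
      norm_num at this
  have hgh : g * h = h * g := by
    set c := g * h * g⁻¹ * h⁻¹ with hc
    have hcc : c ∈ Subgroup.center ↥Co0 := by
      rw [← QuotientGroup.eq_one_iff, hc, QuotientGroup.mk_mul, QuotientGroup.mk_mul, QuotientGroup.mk_mul,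
        QuotientGroup.mk_inv, QuotientGroup.mk_inv, hgm]
      have h2 : Commute ((QuotientGroup.mk g0 : Spor.Co1) ^ 2) (QuotientGroup.mk h) := Commute.pow_left hab 2
      rw [h2.eq]; group
    have hk : ∀ k : ℕ, g ^ k * h * (g ^ k)⁻¹ = c ^ k * h := by
      intro k
      induction k with
      | zero => simp
      | succ k ih =>
        rw [pow_succ' g k, mul_inv_rev, show g * g ^ k * h * ((g ^ k)⁻¹ * g⁻¹) = g * (g ^ k * h * (g ^ k)⁻¹) * g⁻¹ by group,
          ih, show g * (c ^ k * h) * g⁻¹ = (g * c ^ k) * h * g⁻¹ by group,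
          Subgroup.mem_center_iff.1 (pow_mem hcc k) g, show c ^ k * g * h * g⁻¹ = c ^ k * (g * h * g⁻¹) by group,
          show g * h * g⁻¹ = c * h by rw [hc]; group, ← mul_assoc, ← pow_succ]
    have h23 := hk 23
    rw [← hg23, pow_orderOf_eq_one, hg23, one_mul, inv_one, mul_one] at h23
    have hc1 : c ^ 23 = 1 := by
      have := congrArg (· * h⁻¹) h23
      simpa using this.symm
    have hc' : c = 1 := by
      calc c = c ^ 23 * ((c ^ 2) ^ 11)⁻¹ := by group
        _ = 1 := by rw [hc1, hc2 c hcc, one_pow, inv_one, mul_one]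
    rw [hc, mul_inv_eq_one, mul_inv_eq_iff_eq_mul] at hc'
    exact hc'
  have hh : h * h ∈ Subgroup.center ↥Co0 := by
    rw [← QuotientGroup.eq_one_iff, QuotientGroup.mk_mul, ← pow_two, ← hb, pow_orderOf_eq_one]
  have hfac : (Nat.card ↥Co0).factorization 23 = 1 := by
    rw [card_co0, show (8315553613086720000 : ℕ) = 23 * 361545809264640000 by norm_num,
      Nat.factorization_mul (by norm_num) (by norm_num), Finsupp.add_apply,
      Nat.Prime.factorization_self (by norm_num), Nat.factorization_eq_zero_of_not_dvd (by norm_num)]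
  have hshift : orderOf (permHom shiftE) = 23 :=
    (orderOf_injective permHom permHom_injective shiftE).trans orderOf_shiftE
  let Sg : Sylow 23 ↥Co0 := Sylow.ofCard (Subgroup.zpowers g) (by rw [Nat.card_zpowers, hg23, hfac, pow_one])
  let S0 : Sylow 23 ↥Co0 := Sylow.ofCard (Subgroup.zpowers (permHom shiftE))
    (by rw [Nat.card_zpowers, hshift, hfac, pow_one])
  obtain ⟨k, hk⟩ := MulAction.exists_smul_eq ↥Co0 Sg S0
  have hmem : permHom shiftE ∈ ((k • Sg : Sylow 23 ↥Co0) : Subgroup ↥Co0) := by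
    rw [hk]; exact Subgroup.mem_zpowers _
  rw [Sylow.coe_subgroup_smul] at hmem
  obtain ⟨w, hw, hwe⟩ := hmem
  obtain ⟨i, hi⟩ := Subgroup.mem_zpowers_iff.1 hw
  have hw' : k * w * k⁻¹ = permHom shiftE := hwe
  have hwh : w * h = h * w := hi ▸ (Commute.zpow_left hgh i).eq
  have hmemc := mem_center_of_commute_shift (k * h * k⁻¹) (by
    rw [← hw', show k * w * k⁻¹ * (k * h * k⁻¹) = k * (w * h) * k⁻¹ by group, hwh]; group) (by
    rw [show k * h * k⁻¹ * (k * h * k⁻¹) = k * (h * h) * k⁻¹ by group]
    exact (inferInstance : (Subgroup.center ↥Co0).Normal).conj_mem _ hh k)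
  have hhc : h ∈ Subgroup.center ↥Co0 := by
    have := (inferInstance : (Subgroup.center ↥Co0).Normal).conj_mem _ hmemc k⁻¹
    simpa [mul_assoc] using this
  rw [← QuotientGroup.eq_one_iff] at hhc
  rw [hhc, orderOf_one] at hb
  omega

/-- A nonzero class has a representative of squared length 32, 48 or 64. -/
theorem exists_rep {v : ↥leechLattice} (hv : cls v ≠ cls 0) : ∃ w : ↥leechLattice, cls w = cls v ∧
    (sqNorm (w : GolayPt → ℤ) = 32 ∨ sqNorm (w : GolayPt → ℤ) = 48 ∨ sqNorm (w : GolayPt → ℤ) = 64) := by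
  obtain ⟨w, hw, hwc⟩ := classes_covered.1 (cls v)
  have h0 : (w : GolayPt → ℤ) ≠ 0 := fun e => hv (hwc ▸ congrArg cls (Subtype.ext e : w = 0))
  have h1 := thirtyTwo_le_sqNorm w.2 h0
  obtain ⟨k, hk⟩ := sixteen_dvd_sqNorm w.2
  exact ⟨w, hwc, by omega⟩

/-- A class of a short vector is not zero. -/
theorem cls_ne_zero {v : ↥leechLattice} (h1 : 32 ≤ sqNorm (v : GolayPt → ℤ))
    (h2 : sqNorm (v : GolayPt → ℤ) ≤ 64) : cls v ≠ cls 0 := by
  intro h
  obtain ⟨w, hw, e⟩ := cls_eq_iff.1 h
  rw [AddSubgroup.coe_zero, sub_zero] at e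
  have hn : sqNorm (v : GolayPt → ℤ) = 4 * sqNorm w := by
    rw [e, two_nsmul, sqNorm_add]
    simp only [sqNorm, dotInt, Finset.mul_sum, ← Finset.sum_add_distrib]
    exact Finset.sum_congr rfl fun i _ => by ring
  have hw0 : w ≠ 0 := fun e0 => by rw [e0, sqNorm_zero] at hn; omega
  have := thirtyTwo_le_sqNorm hw hw0
  omega

/-- Short vectors of equal length are congruent only up to sign. -/
theorem eq_or_neg {v w : ↥leechLattice} (hn : sqNorm (v : GolayPt → ℤ) ≤ 48)
    (hvw : sqNorm (w : GolayPt → ℤ) = sqNorm (v : GolayPt → ℤ)) (h : cls w = cls v) : w = v ∨ w = -v := by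
  rcases ThreeTransp.short_congr w.2 v.2 (by omega) (by omega) (cls_eq_iff.1 h) with e | e | ⟨e, -, -⟩
  · exact Or.inl (Subtype.ext e)
  · exact Or.inr (Subtype.ext e)
  · omega

/-- The stabiliser of a short vector is simple, of order divisible by 23. -/
theorem stab_simple {v : ↥leechLattice}
    (hn : sqNorm (v : GolayPt → ℤ) = 32 ∨ sqNorm (v : GolayPt → ℤ) = 48) :
    IsSimpleGroup ↥(MulAction.stabilizer ↥Co0 v) ∧ 23 ∣ Nat.card ↥(MulAction.stabilizer ↥Co0 v) := by
  rcases hn with h | h
  · obtain ⟨hs, hc⟩ := Cfsg.Agent.S0402.result v h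
    exact ⟨hs, hc.symm ▸ (by norm_num : 23 ∣ 42305421312000)⟩
  · obtain ⟨hs, hc⟩ := Cfsg.Agent.S0403.result v h
    exact ⟨hs, hc.symm ▸ (by norm_num : 23 ∣ 495766656000)⟩

end Cfsg.Agent.Lib.MonsterType
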