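import Cfsg.Agent.Lib.MonsterType.Orbits
import Cfsg.Agent.Lib.Leech.CrossSub
import Cfsg.Agent.Lib.Compute.M24Action

/-!
# The intersection of the extraspecial subgroup with a conjugate
-/

set_option autoImplicit false
set_option linter.style.haveILetI false
set_option linter.unusedSectionVars false

namespace Cfsg.Agent.Lib.MonsterType

open Cfsg Cfsg.Agent.Lib.Leech Cfsg.Agent.Lib.Compute
open scoped Pointwise

/-- An abelian subgroup of an extraspecial 2-group is small. -/
theorem abelian_bound {E : Type*} [Group E] [Finite E] (hE : Cfsg.IsExtraspecial 2 E) (A : Subgroup E)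
    (hA : ∀ x ∈ A, ∀ y ∈ A, x * y = y * x) : Nat.card A * Nat.card A ≤ 2 * Nat.card E := by
  have hidx : ∀ a : E, (Subgroup.centralizer ({a} : Set E)).index ≤ 2 := by
    intro a
    by_cases ha : a ∈ Subgroup.center E
    · rw [show Subgroup.centralizer ({a} : Set E) = ⊤ from eq_top_iff.2 fun x _ =>
        Subgroup.mem_centralizer_singleton_iff.2 (Subgroup.mem_center_iff.1 ha x), Subgroup.index_top]
      omega
    · let φ : E →* Subgroup.center E := MonoidHom.mk' (fun x => ⟨x * a * x⁻¹ * a⁻¹, by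
        rw [← hE.1.2.2, commutator_def]
        exact Subgroup.commutator_mem_commutator (Subgroup.mem_top x) (Subgroup.mem_top a)⟩) fun x y => by
        have hy : y * a * y⁻¹ * a⁻¹ ∈ Subgroup.center E := by
          rw [← hE.1.2.2, commutator_def]
          exact Subgroup.commutator_mem_commutator (Subgroup.mem_top y) (Subgroup.mem_top a)
        apply Subtype.ext
        show x * y * a * (x * y)⁻¹ * a⁻¹ = (x * a * x⁻¹ * a⁻¹) * (y * a * y⁻¹ * a⁻¹)
        calc x * y * a * (x * y)⁻¹ * a⁻¹ = x * (y * a * y⁻¹ * a⁻¹) * a * x⁻¹ * a⁻¹ := by group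
          _ = (y * a * y⁻¹ * a⁻¹) * x * a * x⁻¹ * a⁻¹ := by rw [Subgroup.mem_center_iff.1 hy x]
          _ = (y * a * y⁻¹ * a⁻¹) * (x * a * x⁻¹ * a⁻¹) := by group
          _ = _ := (Subgroup.mem_center_iff.1 hy _).symm
      have hker : φ.ker ≤ Subgroup.centralizer ({a} : Set E) := fun x hx =>
        Subgroup.mem_centralizer_singleton_iff.2
          (mul_inv_eq_iff_eq_mul.1 (mul_inv_eq_one.1 (congrArg Subtype.val (MonoidHom.mem_ker.1 hx))))
      refine (Nat.le_of_dvd (Nat.pos_of_ne_zero Subgroup.index_ne_zero_of_finite)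
        (Subgroup.index_dvd_of_le hker)).trans ?_
      rw [Subgroup.index_ker]
      exact (Nat.le_of_dvd Nat.card_pos (Subgroup.card_subgroup_dvd_card _)).trans hE.2.le
  set D := Subgroup.centralizer (A : Set E) with hD
  have key : ∀ n : ℕ, ∀ X : Subgroup E, Nat.card X = n → D ≤ X →
      Nat.card A * Nat.card D ≤ Nat.card ↥(A ⊓ Subgroup.centralizer (X : Set E)) * Nat.card X := by
    intro n
    induction n using Nat.strong_induction_on with
    | _ n ih =>
      intro X hXn hDX
      rcases hDX.eq_or_lt with h | h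
      · subst h
        refine Nat.mul_le_mul_right _ (Nat.le_of_dvd Nat.card_pos (Subgroup.card_dvd_of_le ?_))
        exact le_inf le_rfl (Subgroup.le_centralizer_iff.1 le_rfl)
      · obtain ⟨B, ⟨hDB, hBX⟩, hmax⟩ := Set.Finite.exists_maximal
          (Set.toFinite {B : Subgroup E | D ≤ B ∧ B < X}) ⟨D, le_rfl, h⟩
        obtain ⟨a, haX, haB⟩ := SetLike.exists_of_lt hBX
        have hlt : Nat.card B < Nat.card X := by
          refine lt_of_le_of_ne (Nat.le_of_dvd Nat.card_pos (Subgroup.card_dvd_of_le hBX.le)) fun e => ?_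
          exact hBX.ne (Subgroup.eq_of_le_of_card_ge hBX.le e.ge)
        have hIH := ih _ (hXn ▸ hlt) B rfl hDB
        have hgen : B ⊔ Subgroup.zpowers a = X := by
          rcases (sup_le hBX.le (Subgroup.zpowers_le.2 haX)).eq_or_lt with e | e
          · exact e
          · exact absurd (hmax ⟨hDB.trans le_sup_left, e⟩ le_sup_left
              (Subgroup.mem_sup_right (Subgroup.mem_zpowers a))) haB
        have h2B : 2 * Nat.card B ≤ Nat.card X := by
          obtain ⟨k, hk⟩ := Subgroup.card_dvd_of_le hBX.le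
          rw [hk] at hlt ⊢
          rw [mul_comm 2]
          refine Nat.mul_le_mul_left _ ?_
          by_contra hk2
          interval_cases k <;> simp at hlt
        set A1 := A ⊓ Subgroup.centralizer (B : Set E) with hA1
        set A2 := A1 ⊓ Subgroup.centralizer ({a} : Set E) with hA2
        have hsub : A2 ≤ A ⊓ Subgroup.centralizer (X : Set E) := by
          intro x hx
          refine ⟨hx.1.1, ?_⟩
          have hX : X ≤ Subgroup.centralizer ({x} : Set E) := by
            rw [← hgen, sup_le_iff, Subgroup.zpowers_le]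
            exact ⟨fun b hb => Subgroup.mem_centralizer_singleton_iff.2 (hx.1.2 b hb),
              Subgroup.mem_centralizer_singleton_iff.2 (Subgroup.mem_centralizer_singleton_iff.1 hx.2).symm⟩
          exact fun y hy => Subgroup.mem_centralizer_singleton_iff.1 (hX hy)
        have h12 : Nat.card A1 ≤ 2 * Nat.card A2 := by
          have e1 := A1.card_mul_index
          have e2 := A2.card_mul_index
          have e3 : A2.index ≤ A1.index * 2 :=
            (Subgroup.index_inf_le (H := A1) (K := Subgroup.centralizer ({a} : Set E))).trans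
              (Nat.mul_le_mul_left _ (hidx a))
          refine Nat.le_of_mul_le_mul_right ?_ (Nat.pos_of_ne_zero (Subgroup.index_ne_zero_of_finite (H := A1)))
          calc Nat.card A1 * A1.index = Nat.card A2 * A2.index := by rw [e1, e2]
            _ ≤ Nat.card A2 * (A1.index * 2) := Nat.mul_le_mul_left _ e3
            _ = 2 * Nat.card A2 * A1.index := by ring
        calc Nat.card A * Nat.card D ≤ Nat.card A1 * Nat.card B := hIH
          _ ≤ 2 * Nat.card A2 * Nat.card B := Nat.mul_le_mul_right _ h12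
          _ = Nat.card A2 * (2 * Nat.card B) := by ring
          _ ≤ _ := Nat.mul_le_mul (Nat.le_of_dvd Nat.card_pos (Subgroup.card_dvd_of_le hsub)) h2B
  have h1 := key _ ⊤ rfl le_top
  have h2 : Nat.card A ≤ Nat.card D :=
    Nat.le_of_dvd Nat.card_pos (Subgroup.card_dvd_of_le fun x hx y hy => hA y hy x hx)
  have h3 : Nat.card ↥(A ⊓ Subgroup.centralizer ((⊤ : Subgroup E) : Set E)) ≤ 2 := by
    refine (Nat.le_of_dvd Nat.card_pos (Subgroup.card_dvd_of_le ?_)).trans hE.2.le
    exact fun x hx => Subgroup.mem_center_iff.2 fun y => hx.2 y (Subgroup.mem_top y)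
  rw [Subgroup.card_top] at h1
  exact (Nat.mul_le_mul_left _ h2).trans (h1.trans (Nat.mul_le_mul_right _ h3))

variable {G : Type*} [Group G] [Finite G] {z : G}
  {Q : Subgroup (Subgroup.centralizer ({z} : Set G))} [Q.Normal]
  {e : (Subgroup.centralizer ({z} : Set G)) ⧸ Q ≃* Spor.Co1}
  {ψ : leechLattice → Q ⧸ Subgroup.center Q}

/-- The image of a frame element in the first Conway group, seen in the centraliser of `z` modulo `Q`. -/
theorem local_structure (hs : IsExtraspecialCentralizerSetting z Q 12) (hψ : IsLeechModTwoIso Q e ψ) (a : Q) (g : G)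
    (hg : g * z * g⁻¹ = ((a : (Cz z)) : G)) (hne : ((a : (Cz z)) : G) ≠ z) :
    Nat.card ↥((Q.map (Cz z).subtype) ⊓ (Q.map (Cz z).subtype).map (MulAut.conj g).toMonoidHom) = 2 ^ 13 ∧
    ∃ φ : ↥crossGrp →* (Cz z) ⧸ Q,
      φ.range = (((Cz z) ⊓ Subgroup.centralizer ({((a : (Cz z)) : G)} : Set G)).subgroupOf (Cz z)).map
        (QuotientGroup.mk' Q) ∧
      crossHom.ker.map φ = (((Q.map (Cz z).subtype).map (MulAut.conj g).toMonoidHom ⊓ (Cz z)).subgroupOf (Cz z)).map
        (QuotientGroup.mk' Q) ∧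
      Nat.card φ.ker = 2 ∧ φ.ker ≤ crossHom.ker ∧
      ∃ h0 : ↥Co0, (∀ w : ↥leechLattice, ψ w = QuotientGroup.mk a → cls (h0 • eightAt none) = cls w) ∧
        ∀ g' : ↥crossGrp, φ g' = e.symm (QuotientGroup.mk (h0 * (g' : ↥Co0) * h0⁻¹)) := by
  classical
  have hE := hs.2.2.1
  have hcard : Nat.card Q = 2 ^ 25 := hs.2.2.2.1
  obtain ⟨Z, hZz, hZc, hZ1, hZall⟩ := center_eq hs
  obtain ⟨hac, v, hn, hv⟩ := class_of_conj hs hψ a (isConj_iff.2 ⟨g, hg⟩) hne
  haveI := finite_co0
  haveI : Fact (Nat.Prime 2) := ⟨Nat.prime_two⟩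
  haveI : Fact (Nat.Prime 23) := ⟨by norm_num⟩
  set s : G := ((a : (Cz z)) : G) with hsdef
  obtain ⟨n, hnc, hneg, hcases⟩ := exists_negation
  obtain ⟨h0, hh0⟩ := exists_co0_cross (eightAt none) v (sqNorm_eightAt none) hn
  let K : Subgroup G := (Cz z) ⊓ Subgroup.centralizer ({s} : Set G)
  let incl : K →* (Cz z) := Subgroup.inclusion inf_le_left
  have hpull : ∀ k : K, g⁻¹ * (k : G) * g ∈ (Cz z) := by
    intro k
    rw [Subgroup.mem_centralizer_singleton_iff]
    have h1 : (k : G) * s = s * k := Subgroup.mem_centralizer_singleton_iff.1 k.2.2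
    rw [← hg] at h1
    calc g⁻¹ * (k : G) * g * z = g⁻¹ * ((k : G) * (g * z * g⁻¹)) * g := by group
      _ = g⁻¹ * (g * z * g⁻¹ * k) * g := by rw [h1]
      _ = z * (g⁻¹ * (k : G) * g) := by group
  let ι : K →* (Cz z) := MonoidHom.mk' (fun k => ⟨g⁻¹ * (k : G) * g, hpull k⟩) fun x y => Subtype.ext (by
    show g⁻¹ * ((x : G) * y) * g = g⁻¹ * (x : G) * g * (g⁻¹ * y * g)
    group)
  let β : K →* Spor.Co1 := e.toMonoidHom.comp ((QuotientGroup.mk' Q).comp incl)
  let γ : K →* Spor.Co1 := e.toMonoidHom.comp ((QuotientGroup.mk' Q).comp ι)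
  have hβker : ∀ k : K, k ∈ β.ker ↔ incl k ∈ Q := by
    intro k
    rw [MonoidHom.mem_ker, ← QuotientGroup.eq_one_iff]
    simp [β]
  have hγker : ∀ k : K, k ∈ γ.ker ↔ ι k ∈ Q := by
    intro k
    rw [MonoidHom.mem_ker, ← QuotientGroup.eq_one_iff]
    simp [γ]
  have hιinj : Function.Injective ι := fun x y h => Subtype.ext (by
    have h' : g⁻¹ * (x : G) * g = g⁻¹ * (y : G) * g := congrArg Subtype.val h
    simpa using h')
  have hQ2 : IsPGroup 2 Q := hE.1.1
  have hγ2 : IsPGroup 2 γ.ker := by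
    let j : γ.ker →* Q := MonoidHom.mk' (fun k => ⟨ι k.1, (hγker k.1).1 k.2⟩) fun x y => Subtype.ext (map_mul ι _ _)
    exact hQ2.of_injective j fun x y h => Subtype.ext (hιinj (congrArg Subtype.val h))
  -- the image in the Conway group
  let μ : ↥crossGrp →* Spor.Co1 :=
    (QuotientGroup.mk' (Subgroup.center ↥Co0)).comp ((MulAut.conj h0).toMonoidHom.comp crossGrp.subtype)
  have hcross : ∀ g' : ↥Co0, g' ∈ crossGrp ↔ cls (g' • eightAt none) = cls (eightAt none) := by
    intro g'
    show g' • crossSet (cls (eightAt none)) = crossSet (cls (eightAt none)) ↔ _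
    rw [smul_crossSet]
    refine ⟨fun h => ?_, fun h => by rw [h]⟩
    have hm : g' • eightAt none ∈ crossSet (cls (g' • eightAt none)) := ⟨by rw [co0_sqNorm]; exact sqNorm_eightAt none, rfl⟩
    rw [h] at hm
    exact hm.2
  have hrange : β.range = μ.range := by
    ext x
    constructor
    · rintro ⟨k, rfl⟩
      obtain ⟨g0, hg0⟩ := QuotientGroup.mk_surjective (β k)
      have h1 := hψ.2.2.2 (incl k) g0 hg0 v a hv
      have hfix : incl k * (a : (Cz z)) * (incl k)⁻¹ = a := Subtype.ext (by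
        show (k : G) * s * (k : G)⁻¹ = s
        rw [Subgroup.mem_centralizer_singleton_iff.1 k.2.2]; group)
      have h2 : ψ (g0 • v) = ψ v := by
        rw [h1, hv]; exact congrArg QuotientGroup.mk (Subtype.ext hfix)
      have h3 := (psi_eq_iff hE hψ).1 h2
      have h4 : h0⁻¹ * g0 * h0 ∈ crossGrp := by
        rw [hcross, mul_smul, mul_smul, smul_cls (g := h0⁻¹) ((smul_cls (g := g0) hh0).trans (h3.trans hh0.symm)),
          inv_smul_smul]
      refine ⟨⟨_, h4⟩, ?_⟩
      show (QuotientGroup.mk (h0 * (h0⁻¹ * g0 * h0) * h0⁻¹) : Spor.Co1) = _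
      rw [show h0 * (h0⁻¹ * g0 * h0) * h0⁻¹ = g0 by group, hg0]
    · rintro ⟨⟨g', hg'⟩, rfl⟩
      set g0 : ↥Co0 := h0 * g' * h0⁻¹
      have hfix : cls (g0 • v) = cls v := by
        rw [← smul_cls (g := g0) hh0, ← mul_smul, show g0 * h0 = h0 * g' by simp [g0], mul_smul,
          smul_cls (g := h0) ((hcross g').1 hg'), hh0]
      obtain ⟨h, hh⟩ := QuotientGroup.mk_surjective (e.symm (QuotientGroup.mk g0))
      have h1 := hψ.2.2.2 h g0 (by rw [hh, e.apply_symm_apply]) v a hv
      set a' : Q := ⟨h * a * h⁻¹, (inferInstance : Q.Normal).conj_mem (a : (Cz z)) a.2 h⟩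
      have h2 : (QuotientGroup.mk a : Q ⧸ Subgroup.center Q) = QuotientGroup.mk a' := by
        rw [← hv, ← h1, psi_eq_iff hE hψ, hfix]
      have ha' : a' ∉ Subgroup.center Q := by
        rw [← QuotientGroup.eq_one_iff, ← h2, QuotientGroup.eq_one_iff]; exact hac
      obtain ⟨q, hq⟩ := conj_swap hE ha' h2.symm
      set k0 : (Cz z) := (q : (Cz z)) * h
      have hk0 : k0 * (a : (Cz z)) * k0⁻¹ = a := by
        conv_rhs => rw [← hq]
        simp only [k0, a', Subgroup.coe_mul, InvMemClass.coe_inv]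
        group
      refine ⟨⟨(k0 : G), k0.2, Subgroup.mem_centralizer_singleton_iff.2 ?_⟩, ?_⟩
      · have := congrArg (fun x : (Cz z) => (x : G)) hk0
        simp only [Subgroup.coe_mul, InvMemClass.coe_inv] at this
        exact mul_inv_eq_iff_eq_mul.1 this
      · show e (QuotientGroup.mk k0) = _
        rw [QuotientGroup.mk_mul, (QuotientGroup.eq_one_iff (q : (Cz z))).2 q.2, one_mul, hh, e.apply_symm_apply]
        rfl
  have hμker : Nat.card μ.ker = 2 := by
    have hn1 : n ≠ 1 := fun h => by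
      have h1 := hneg (eightAt none)
      rw [h, one_smul] at h1
      have := congrFun (congrArg Subtype.val h1) none
      simp [eightAt] at this
    have hnm : n ∈ crossGrp := by rw [hcross, hneg, cls_neg]
    have hle : (μ.ker.map crossGrp.subtype) ≤ Subgroup.center ↥Co0 := by
      rintro _ ⟨k, hk, rfl⟩
      have h1 : h0 * (k : ↥Co0) * h0⁻¹ ∈ Subgroup.center ↥Co0 := (QuotientGroup.eq_one_iff _).1 hk
      have h2 := (inferInstance : (Subgroup.center ↥Co0).Normal).conj_mem _ h1 h0⁻¹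
      simpa [mul_assoc] using h2
    have h1 : Nat.card μ.ker ∣ 2 := by
      rw [← Subgroup.card_map_of_injective crossGrp.subtype_injective, ← card_center]
      exact Subgroup.card_dvd_of_le hle
    rcases (Nat.dvd_prime Nat.prime_two).1 h1 with h | h
    · exfalso
      have hm : (⟨n, hnm⟩ : ↥crossGrp) ∈ μ.ker := by
        rw [MonoidHom.mem_ker]
        exact (QuotientGroup.eq_one_iff _).2 ((inferInstance : (Subgroup.center ↥Co0).Normal).conj_mem _ hnc h0)
      rw [Subgroup.card_eq_one.1 h, Subgroup.mem_bot] at hm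
      exact hn1 (congrArg Subtype.val hm)
    · exact h
  have hμcard := μ.ker.card_mul_index
  rw [hμker, Subgroup.index_ker, card_crossGrp] at hμcard
  have h23 : 23 ∣ Nat.card β.range := by
    rw [hrange, show Nat.card μ.range = 4096 / 2 * 244823040 by omega]
    norm_num
  let φ₀ : ↥crossGrp →* β.range :=
    (MulEquiv.subgroupCongr hrange.symm).toMonoidHom.comp μ.rangeRestrict
  have hφs : Function.Surjective φ₀ := (MulEquiv.subgroupCongr hrange.symm).surjective.comp μ.rangeRestrict_surjective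
  have hk : Nat.card crossHom.ker = 4096 := by
    have e1 := crossHom.ker.card_mul_index
    rw [Subgroup.index_ker, MonoidHom.range_eq_top.2 crossHom_surjective, Subgroup.card_top, card_M24,
      card_crossGrp] at e1
    exact Nat.eq_of_mul_eq_mul_right (by norm_num) e1
  have hsmall : ∀ N : Subgroup β.range, N.Normal → IsPGroup 2 N →
      Nat.card N ≤ 2048 ∧ N.comap φ₀ ≤ crossHom.ker ∧ Nat.card ↥(N.comap φ₀) = 2 * Nat.card N := by
    intro N hN hN2
    haveI := isSimpleGroup_M24
    set N' := N.comap φ₀ with hN'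
    have hcN' : Nat.card N' = 2 * Nat.card N := by
      have e1 := N'.card_mul_index
      have e2 := N.card_mul_index
      rw [hN', Subgroup.index_comap_of_surjective _ hφs, card_crossGrp] at e1
      have e3 : Nat.card β.range = Nat.card μ.range := by rw [hrange]
      rw [e3] at e2
      refine Nat.eq_of_mul_eq_mul_right (Nat.pos_of_ne_zero (Subgroup.index_ne_zero_of_finite (H := N))) ?_
      rw [hN', e1, mul_assoc, e2, hμcard]
    have hN'n : N'.Normal := Subgroup.Normal.comap hN φ₀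
    have hN'2 : IsPGroup 2 N' := by
      obtain ⟨m, hm⟩ := IsPGroup.iff_card.1 hN2
      exact IsPGroup.of_card (n := m + 1) (by rw [hcN', hm, pow_succ'])
    have hle : N' ≤ crossHom.ker := by
      intro x hx
      have hM : (N'.map crossHom).Normal := Subgroup.Normal.map hN'n _ crossHom_surjective
      rcases hM.eq_bot_or_eq_top with h | h
      · have h1 : crossHom x ∈ N'.map crossHom := Subgroup.mem_map_of_mem _ hx
        rw [h, Subgroup.mem_bot] at h1
        exact MonoidHom.mem_ker.2 h1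
      · exfalso
        obtain ⟨m, hm⟩ := IsPGroup.iff_card.1 (h ▸ hN'2.map crossHom : IsPGroup 2 (⊤ : Subgroup ↥M24))
        rw [Subgroup.card_top, card_M24] at hm
        have h1 : 23 ∣ 2 ^ m := hm ▸ (by norm_num)
        have := Nat.Prime.dvd_of_dvd_pow (by norm_num : Nat.Prime 23) h1
        norm_num at this
    have := Nat.le_of_dvd Nat.card_pos (Subgroup.card_dvd_of_le hle)
    exact ⟨by omega, hle, hcN'⟩
  have hzK : z ∈ K := ⟨Subgroup.mem_centralizer_singleton_iff.2 rfl,
    Subgroup.mem_centralizer_singleton_iff.2 (Subgroup.mem_centralizer_singleton_iff.1 (a : (Cz z)).2).symm⟩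
  set zK : K := ⟨z, hzK⟩ with hzKdef
  have hcase : γ zK = 1 := by
    by_contra hcase
    have hd : 23 ∣ Nat.card K := h23.trans (Subgroup.card_range_dvd β)
    obtain ⟨k, hk⟩ := exists_prime_orderOf_dvd_card' (G := K) 23 hd
    have hk1 : γ k ≠ 1 := by
      intro h
      obtain ⟨m, hm⟩ := hγ2 ⟨k, MonoidHom.mem_ker.2 h⟩
      have h2 : orderOf k ∣ 2 ^ m := orderOf_dvd_of_pow_eq_one (congrArg Subtype.val hm)
      rw [hk] at h2
      have := Nat.Prime.dvd_of_dvd_pow (by norm_num : Nat.Prime 23) h2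
      norm_num at this
    have hz2 : zK ^ 2 = 1 := Subtype.ext (by
      show z ^ 2 = 1
      rw [← hs.1, pow_orderOf_eq_one])
    refine co1_no_commuting (γ k) (γ zK)
      (orderOf_eq_prime (by rw [← map_pow, ← hk, pow_orderOf_eq_one, map_one]) hk1)
      (orderOf_eq_prime (by rw [← map_pow, hz2, map_one]) hcase) ?_
    rw [← map_mul, ← map_mul]
    exact congrArg γ (Subtype.ext (Subgroup.mem_centralizer_singleton_iff.1 k.2.1))
  set b : Q := ⟨ι zK, (hγker zK).1 hcase⟩ with hb
  have hgz : g⁻¹ * z * g ≠ z := fun h => hne (by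
    show s = z
    calc s = g * z * g⁻¹ := hg.symm
      _ = g * (g⁻¹ * z * g) * g⁻¹ := by rw [h]
      _ = z := by group)
  have hgz1 : g⁻¹ * z * g ≠ 1 := fun h => by
    have h3 : z = 1 := by
      calc z = g * (g⁻¹ * z * g) * g⁻¹ := by group
        _ = 1 := by rw [h]; group
    exact hZ1 (Subtype.ext (Subtype.ext (hZz.trans h3)))
  have hbc : b ∉ Subgroup.center Q := by
    intro h
    rcases hZall b h with h1 | h1
    · exact hgz1 (congrArg (fun q : Q => ((q : (Cz z)) : G)) h1)
    · exact hgz ((congrArg (fun q : Q => ((q : (Cz z)) : G)) h1).trans hZz)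
  have e2 : Nat.card γ.ker = Nat.card (Subgroup.centralizer ({b} : Set Q)) := by
    refine Nat.card_eq_of_bijective
      (fun k => ⟨⟨ι k.1, (hγker k.1).1 k.2⟩, Subgroup.mem_centralizer_singleton_iff.2
        (Subtype.ext (show ι k.1 * ι zK = ι zK * ι k.1 by
          rw [← map_mul, ← map_mul]
          exact congrArg ι (Subtype.ext (Subgroup.mem_centralizer_singleton_iff.1 k.1.2.1))))⟩)
      ⟨fun x y h => ?_, fun x => ?_⟩
    · exact Subtype.ext (hιinj (congrArg (fun t : Subgroup.centralizer ({b} : Set Q) => (t.1 : (Cz z))) h))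
    · have hxz : ((x.1 : (Cz z)) : G) * z = z * (x.1 : (Cz z)) := Subgroup.mem_centralizer_singleton_iff.1 (x.1 : (Cz z)).2
      have hxb : ((x.1 : (Cz z)) : G) * (g⁻¹ * z * g) = g⁻¹ * z * g * (x.1 : (Cz z)) :=
        congrArg (fun q : Q => ((q : (Cz z)) : G)) (Subgroup.mem_centralizer_singleton_iff.1 x.2)
      have hmem : g * ((x.1 : (Cz z)) : G) * g⁻¹ ∈ K := by
        refine ⟨Subgroup.mem_centralizer_singleton_iff.2 ?_, Subgroup.mem_centralizer_singleton_iff.2 ?_⟩
        · calc g * ((x.1 : (Cz z)) : G) * g⁻¹ * z = g * (((x.1 : (Cz z)) : G) * (g⁻¹ * z * g)) * g⁻¹ := by group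
            _ = g * (g⁻¹ * z * g * (x.1 : (Cz z))) * g⁻¹ := by rw [hxb]
            _ = z * (g * ((x.1 : (Cz z)) : G) * g⁻¹) := by group
        · rw [← hg]
          calc g * ((x.1 : (Cz z)) : G) * g⁻¹ * (g * z * g⁻¹) = g * (((x.1 : (Cz z)) : G) * z) * g⁻¹ := by group
            _ = g * (z * (x.1 : (Cz z))) * g⁻¹ := by rw [hxz]
            _ = g * z * g⁻¹ * (g * ((x.1 : (Cz z)) : G) * g⁻¹) := by group
      have hι : ι ⟨_, hmem⟩ = (x.1 : (Cz z)) := Subtype.ext (show g⁻¹ * (g * ((x.1 : (Cz z)) : G) * g⁻¹) * g = _ by group)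
      exact ⟨⟨⟨_, hmem⟩, (hγker _).2 (by rw [hι]; exact x.1.2)⟩, Subtype.ext (Subtype.ext hι)⟩
  have hγcard : Nat.card γ.ker = 2 ^ 24 := by
    have h := (Subgroup.centralizer ({b} : Set Q)).card_mul_index
    rw [index_centralizer hE hbc, ← e2, hcard] at h
    omega
  set M := (Q.map (Cz z).subtype) ⊓ (Q.map (Cz z).subtype).map (MulAut.conj g).toMonoidHom with hM
  let f : γ.ker →* β.range := β.rangeRestrict.comp γ.ker.subtype
  have hfN : f.range.Normal := by
    rw [show f.range = γ.ker.map β.rangeRestrict from (MonoidHom.range_comp β.rangeRestrict γ.ker.subtype).trans (congrArg _ (Subgroup.range_subtype _))]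
    exact Subgroup.Normal.map inferInstance _ β.rangeRestrict_surjective
  have hf2 : IsPGroup 2 f.range := hγ2.of_surjective f.rangeRestrict f.rangeRestrict_surjective
  obtain ⟨h1, hNle, hNcard⟩ := hsmall _ hfN hf2
  have h2 := f.ker.card_mul_index
  rw [Subgroup.index_ker, hγcard] at h2
  have h3 : Nat.card f.ker ≤ Nat.card M := by
    refine Nat.card_le_card_of_injective (fun k => ⟨((k.1.1 : K) : G), ?_, ?_⟩) ?_
    · have hk : k.1.1 ∈ β.ker := MonoidHom.mem_ker.2 (congrArg Subtype.val (MonoidHom.mem_ker.1 k.2))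
      exact ⟨incl k.1.1, (hβker _).1 hk, rfl⟩
    · refine ⟨_, ⟨ι k.1.1, (hγker _).1 k.1.2, rfl⟩, ?_⟩
      show g * (g⁻¹ * ((k.1.1 : K) : G) * g) * g⁻¹ = _
      group
    · intro x y h
      exact Subtype.ext (Subtype.ext (Subtype.ext (congrArg (fun t : ↥M => (t : G)) h)))
  have hle : Nat.card M ≤ 2 ^ 13 := by
    let jQ : Q →* G := (Cz z).subtype.comp Q.subtype
    have hjQ : Function.Injective jQ := (Cz z).subtype_injective.comp Q.subtype_injective
    set A := M.comap jQ with hA
    have hAM : Nat.card A = Nat.card M := by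
      rw [← Subgroup.card_map_of_injective hjQ, hA, Subgroup.map_comap_eq_self]
      rintro x ⟨⟨q, hq, rfl⟩, -⟩
      exact ⟨⟨q, hq⟩, rfl⟩
    have hcom : ∀ x ∈ A, ∀ y ∈ A, x * y = y * x := by
      intro x hx y hy
      obtain ⟨_, ⟨qx, hqx, rfl⟩, hgx⟩ := hx.2
      obtain ⟨_, ⟨qy, hqy, rfl⟩, hgy⟩ := hy.2
      have hgx' : g * (qx : G) * g⁻¹ = ((x : (Cz z)) : G) := hgx
      have hgy' : g * (qy : G) * g⁻¹ = ((y : (Cz z)) : G) := hgy
      rcases hZall _ (comm_mem hE x y) with c1 | c1
      · exact mul_inv_eq_iff_eq_mul.1 (mul_inv_eq_one.1 c1)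
      exfalso
      have d1 : ((x : (Cz z)) : G) * (y : (Cz z)) * ((x : (Cz z)) : G)⁻¹ * ((y : (Cz z)) : G)⁻¹ = z :=
        (congrArg (fun q : Q => ((q : (Cz z)) : G)) c1).trans hZz
      have dg : g⁻¹ * z * g = (qx : G) * qy * (qx : G)⁻¹ * (qy : G)⁻¹ := by
        refine (congrArg (fun w : G => g⁻¹ * w * g) d1.symm).trans ?_
        simp only [← hgx', ← hgy']
        group
      rcases hZall _ (comm_mem hE ⟨qx, hqx⟩ ⟨qy, hqy⟩) with c2 | c2
      · exact hgz1 (dg.trans (congrArg (fun q : Q => ((q : (Cz z)) : G)) c2))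
      · exact hgz (dg.trans ((congrArg (fun q : Q => ((q : (Cz z)) : G)) c2).trans hZz))
    have h := abelian_bound hE A hcom
    rw [hAM, hcard, show (2 : ℕ) * 2 ^ 25 = 2 ^ 13 * 2 ^ 13 by norm_num] at h
    exact Nat.mul_self_le_mul_self_iff.1 h
  have hge : 2 ^ 24 ≤ Nat.card M * 2048 := h2 ▸ Nat.mul_le_mul h3 h1
  have hN : Nat.card f.range = 2048 := by
    have := h2 ▸ Nat.mul_le_mul_right (Nat.card f.range) (h3.trans hle)
    omega
  have heq : f.range.comap φ₀ = crossHom.ker := Subgroup.eq_of_le_of_card_ge hNle (by rw [hNcard, hN, hk])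
  refine ⟨by omega, e.symm.toMonoidHom.comp μ, ?_, ?_, ?_, ?_, h0,
    fun w hw => hh0.trans ((psi_eq_iff hE hψ).1 (hv.trans hw.symm)), fun g' => rfl⟩
  · ext x
    constructor
    · rintro ⟨y, rfl⟩
      have hy : μ y ∈ β.range := hrange ▸ ⟨y, rfl⟩
      obtain ⟨k, hk⟩ := hy
      refine ⟨incl k, k.2, ?_⟩
      show _ = e.symm (μ y)
      rw [← hk]
      exact (e.symm_apply_apply _).symm
    · rintro ⟨c, hc, rfl⟩
      have hy : β ⟨(c : G), hc⟩ ∈ μ.range := hrange ▸ ⟨_, rfl⟩
      obtain ⟨y, hy⟩ := hy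
      refine ⟨y, ?_⟩
      show e.symm (μ y) = _
      rw [hy]
      exact e.symm_apply_apply _
  · ext x
    constructor
    · rintro ⟨y, hy, rfl⟩
      rw [SetLike.mem_coe, ← heq] at hy
      obtain ⟨k, hk⟩ := hy
      refine ⟨incl k.1, ⟨⟨_, ⟨ι k.1, (hγker _).1 k.2, rfl⟩, ?_⟩, k.1.2.1⟩, ?_⟩
      · show g * (g⁻¹ * ((k.1 : K) : G) * g) * g⁻¹ = _
        group
        rfl
      · show _ = e.symm (μ y)
        rw [show μ y = β k.1 from (congrArg Subtype.val hk).symm]
        exact (e.symm_apply_apply _).symm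
    · rintro ⟨c, ⟨⟨_, ⟨q, hq, rfl⟩, hqc⟩, hc⟩, rfl⟩
      have hqc' : g * (q : G) * g⁻¹ = (c : G) := hqc
      have hcK : (c : G) ∈ K := by
        refine ⟨hc, Subgroup.mem_centralizer_singleton_iff.2 ?_⟩
        rw [← hqc', ← hg]
        calc g * (q : G) * g⁻¹ * (g * z * g⁻¹) = g * ((q : G) * z) * g⁻¹ := by group
          _ = g * (z * (q : G)) * g⁻¹ := by rw [Subgroup.mem_centralizer_singleton_iff.1 q.2]
          _ = g * z * g⁻¹ * (g * (q : G) * g⁻¹) := by group
      have hιc : ι ⟨_, hcK⟩ = q := Subtype.ext (by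
        show g⁻¹ * (c : G) * g = (q : G)
        rw [← hqc']; group)
      have hker : (⟨_, hcK⟩ : K) ∈ γ.ker := (hγker _).2 (by rw [hιc]; exact hq)
      obtain ⟨y, hy⟩ := hφs (f ⟨_, hker⟩)
      refine ⟨y, ?_, ?_⟩
      · rw [SetLike.mem_coe, ← heq, Subgroup.mem_comap, hy]
        exact ⟨_, rfl⟩
      · show e.symm (μ y) = _
        rw [show μ y = β ⟨_, hcK⟩ from congrArg Subtype.val hy]
        exact e.symm_apply_apply _
  · rw [MonoidHom.ker_comp_of_injective _ _ e.symm.injective]
    exact hμker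
  · rw [MonoidHom.ker_comp_of_injective _ _ e.symm.injective, ← heq]
    intro y hy
    rw [Subgroup.mem_comap, show φ₀ y = 1 from Subtype.ext (MonoidHom.mem_ker.1 hy)]
    exact one_mem _

/-- `Q` meets its conjugate attached to a conjugate of `z` in `Q` in a subgroup of order 2^13. -/
theorem q_meet (hs : IsExtraspecialCentralizerSetting z Q 12) (hψ : IsLeechModTwoIso Q e ψ) (a : Q) (g : G)
    (hg : g * z * g⁻¹ = ((a : (Cz z)) : G)) (hne : ((a : (Cz z)) : G) ≠ z) :
    Nat.card ↥((Q.map (Cz z).subtype) ⊓ (Q.map (Cz z).subtype).map (MulAut.conj g).toMonoidHom) = 2 ^ 13 :=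
  (local_structure hs hψ a g hg hne).1

end Cfsg.Agent.Lib.MonsterType
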