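import Cfsg.Agent.Lib.MonsterType.Squares
import Cfsg.Agent.Lib.MonsterType.QMeet

/-!
# An element fixing a noncentral involution of `Q` and moving `z` inside `Q`
-/

set_option autoImplicit false
set_option linter.style.haveILetI false
set_option linter.unusedSectionVars false

namespace Cfsg.Agent.Lib.MonsterType

open Cfsg Cfsg.Agent.Lib.Leech Cfsg.Agent.Lib.Compute
open scoped Pointwise

variable {G : Type*} [Group G] [Finite G] {z : G}
  {Q : Subgroup (Subgroup.centralizer ({z} : Set G))} [Q.Normal]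
  {e : (Subgroup.centralizer ({z} : Set G)) ⧸ Q ≃* Spor.Co1}
  {ψ : leechLattice → Q ⧸ Subgroup.center Q}

/-- Some element fixing `t` conjugates `z` to another element of `Q`. -/
theorem exists_move (hs : IsExtraspecialCentralizerSetting z Q 12) (hψ : IsLeechModTwoIso Q e ψ) (t : Q)
    (ht : orderOf ((t : Cz z) : G) = 2) (hnc : ¬ IsConj z ((t : Cz z) : G)) :
    ∃ g : G, g * ((t : Cz z) : G) * g⁻¹ = ((t : Cz z) : G) ∧ g * z * g⁻¹ ≠ z ∧
      ∃ hc : g * z * g⁻¹ ∈ Cz z, (⟨g * z * g⁻¹, hc⟩ : Cz z) ∈ Q := by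
  classical
  have hE := hs.2.2.1
  have hcard : Nat.card Q = 2 ^ 25 := hs.2.2.2.1
  obtain ⟨Z, hZz, hZc, hZ1, hZall⟩ := center_eq hs
  obtain ⟨v, hv32, hv⟩ := class_of_not_conj hs hψ t ht hnc
  have ht2 : t * t = 1 := Subtype.ext (Subtype.ext (by
    show ((t : Cz z) : G) * ((t : Cz z) : G) = 1
    rw [← pow_two, ← ht, pow_orderOf_eq_one]))
  obtain ⟨a, ha⟩ := QuotientGroup.mk_surjective (ψ (eightAt none))
  obtain ⟨hconj, hne⟩ := conj_of_class hs hψ (sqNorm_eightAt none) ha.symm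
  obtain ⟨g, hg⟩ := isConj_iff.1 hconj
  obtain ⟨hMcard, φ, -, hN, -, -, h0, hh0, hφ⟩ := local_structure hs hψ a g hg hne
  have hh0e : cls (h0 • eightAt none) = cls (eightAt none) := by
    obtain ⟨-, v', hv', hv'a⟩ := class_of_conj hs hψ a hconj hne
    rw [hh0 v' hv'a]
    exact (psi_eq_iff hE hψ).1 (hv'a.trans ha)
  have hh0m : h0 ∈ crossGrp := by
    show h0 • crossSet (cls (eightAt none)) = _
    rw [smul_crossSet, hh0e]
  obtain ⟨ε, hε⟩ := exists_diag (c := setOf24 0x800c75) (by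
    rw [supports_golayCode]
    exact ⟨_, octad_sub.1, rfl⟩)
  obtain ⟨hεm, hεk⟩ := diag_mem_crossGrp hε
  set ε' : ↥crossGrp := ⟨h0, hh0m⟩⁻¹ * ⟨ε, hεm⟩ * ⟨h0, hh0m⟩
  have hε'k : ε' ∈ crossHom.ker := by
    have := (inferInstance : (crossHom.ker).Normal).conj_mem ⟨ε, hεm⟩ (MonoidHom.mem_ker.2 hεk) ⟨h0, hh0m⟩⁻¹
    simpa [ε'] using this
  have hcE : φ ε' ∈ crossHom.ker.map φ := Subgroup.mem_map_of_mem _ hε'k
  rw [hN] at hcE
  obtain ⟨c, ⟨hc1, -⟩, hceq⟩ := hcE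
  have hec : e (QuotientGroup.mk c) = QuotientGroup.mk ε := by
    rw [show (QuotientGroup.mk c : Cz z ⧸ Q) = φ ε' from hceq, hφ, e.apply_symm_apply]
    congr 1
    simp [ε', mul_assoc]
  obtain ⟨_, ⟨c', hc', rfl⟩, hcc⟩ := hc1
  have hcc' : g * (c' : G) * g⁻¹ = (c : G) := hcc
  -- the intersection as an abelian subgroup of `Q`
  set M := (Q.map (Cz z).subtype) ⊓ (Q.map (Cz z).subtype).map (MulAut.conj g).toMonoidHom
  let jQ : Q →* G := (Cz z).subtype.comp Q.subtype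
  have hjQ : Function.Injective jQ := (Cz z).subtype_injective.comp Q.subtype_injective
  set A := M.comap jQ with hA
  have hAM : Nat.card A = 2 ^ 13 := by
    rw [← hMcard, ← Subgroup.card_map_of_injective hjQ, hA, Subgroup.map_comap_eq_self]
    rintro x ⟨⟨q, hq, rfl⟩, -⟩
    exact ⟨⟨q, hq⟩, rfl⟩
  have hgz : g⁻¹ * z * g ≠ z := fun h => hne (by
    rw [← hg]
    calc g * z * g⁻¹ = g * (g⁻¹ * z * g) * g⁻¹ := by rw [h]
      _ = z := by group)
  have hgz1 : g⁻¹ * z * g ≠ 1 := fun h => by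
    have h3 : z = 1 := by
      calc z = g * (g⁻¹ * z * g) * g⁻¹ := by group
        _ = 1 := by rw [h]; group
    exact hZ1 (Subtype.ext (Subtype.ext (hZz.trans h3)))
  have hcom : ∀ x ∈ A, ∀ y ∈ A, x * y = y * x := by
    intro x hx y hy
    obtain ⟨_, ⟨qx, hqx, rfl⟩, hgx⟩ := hx.2
    obtain ⟨_, ⟨qy, hqy, rfl⟩, hgy⟩ := hy.2
    have hgx' : g * (qx : G) * g⁻¹ = ((x : (Cz z)) : G) := hgx
    have hgy' : g * (qy : G) * g⁻¹ = ((y : (Cz z)) : G) := hgy
    rcases hZall _ (comm_mem hE x y) with c1 | c1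
    · exact mul_inv_eq_iff_eq_mul.1 (mul_inv_eq_one.1 c1)
    exfalso
    have d1 : ((x : (Cz z)) : G) * (y : (Cz z)) * ((x : (Cz z)) : G)⁻¹ * ((y : (Cz z)) : G)⁻¹ = z :=
      (congrArg (fun q : Q => ((q : (Cz z)) : G)) c1).trans hZz
    have dg : g⁻¹ * z * g = (qx : G) * qy * (qx : G)⁻¹ * (qy : G)⁻¹ := by
      refine (congrArg (fun w : G => g⁻¹ * w * g) d1.symm).trans ?_
      simp only [← hgx', ← hgy']
      group
    rcases hZall _ (comm_mem hE ⟨qx, hqx⟩ ⟨qy, hqy⟩) with c2 | c2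
    · exact hgz1 (dg.trans (congrArg (fun q : Q => ((q : (Cz z)) : G)) c2))
    · exact hgz (dg.trans ((congrArg (fun q : Q => ((q : (Cz z)) : G)) c2).trans hZz))
  -- an element of the class of (4,4,0,...)
  have hu32 : sqNorm (Spor.leechU : GolayPt → ℤ) = 32 := by
    show sqNorm Spor.vecU = 32
    decide +kernel
  obtain ⟨y, hy⟩ := QuotientGroup.mk_surjective (ψ Spor.leechU)
  have hy2 : y * y = 1 := (sq_iff hs hψ hv hv32 ht2 hy.symm).2 (by rw [hu32])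
  have hyA : ∀ i ∈ A, i * y = y * i := by
    intro i hi
    obtain ⟨w, hw⟩ := hψ.2.1 (QuotientGroup.mk i)
    rw [comm_iff hs hψ hy.symm hu32 hy2 hw]
    refine four_orth ε hε w ?_
    have h1 := hψ.2.2.2 c ε hec.symm w i hw
    set i' : Q := ⟨c * i * c⁻¹, (inferInstance : Q.Normal).conj_mem (i : Cz z) i.2 c⟩
    obtain ⟨_, ⟨qi, hqi, rfl⟩, hgi⟩ := hi.2
    have hgi' : g * (qi : G) * g⁻¹ = ((i : Cz z) : G) := hgi
    rcases hZall _ (comm_mem hE ⟨c', hc'⟩ ⟨qi, hqi⟩) with h | h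
    · left
      have hG : ((i' : Cz z) : G) = ((i : Cz z) : G) := by
        show (c : G) * ((i : Cz z) : G) * (c : G)⁻¹ = _
        have h' : (c' : G) * (qi : G) * (c' : G)⁻¹ * (qi : G)⁻¹ = 1 := congrArg (fun q : Q => ((q : Cz z) : G)) h
        rw [← hcc', ← hgi']
        calc g * (c' : G) * g⁻¹ * (g * qi * g⁻¹) * (g * (c' : G) * g⁻¹)⁻¹
            = g * ((c' : G) * qi * (c' : G)⁻¹ * (qi : G)⁻¹) * qi * g⁻¹ := by group
          _ = g * qi * g⁻¹ := by rw [h']; group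
      rw [← psi_eq_iff hE hψ, h1, hw, show i' = i from Subtype.ext (Subtype.ext hG)]
    · right
      have hG : ((i' : Cz z) : G) = ((a : Cz z) : G) * ((i : Cz z) : G) := by
        show (c : G) * ((i : Cz z) : G) * (c : G)⁻¹ = _
        have h' : (c' : G) * (qi : G) * (c' : G)⁻¹ * (qi : G)⁻¹ = z :=
          (congrArg (fun q : Q => ((q : Cz z) : G)) h).trans hZz
        rw [← hcc', ← hgi', ← hg]
        calc g * (c' : G) * g⁻¹ * (g * qi * g⁻¹) * (g * (c' : G) * g⁻¹)⁻¹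
            = g * ((c' : G) * qi * (c' : G)⁻¹ * (qi : G)⁻¹) * qi * g⁻¹ := by group
          _ = g * z * g⁻¹ * (g * qi * g⁻¹) := by rw [h']; group
      rw [← psi_eq_iff hE hψ, h1, add_comm, hψ.1, hw, ← ha, ← QuotientGroup.mk_mul,
        show i' = a * i from Subtype.ext (Subtype.ext hG)]
  set B := A ⊔ Subgroup.zpowers y with hB
  have hBc : B ≤ Subgroup.centralizer (B : Set Q) := by
    refine sup_le (Subgroup.le_centralizer_iff.1 (sup_le ?_ ?_)) (Subgroup.le_centralizer_iff.1 (sup_le ?_ ?_))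
    · exact fun x hx w hw => hcom w hw x hx
    · rw [Subgroup.zpowers_le]
      exact fun w hw => hyA w hw
    · intro x hx w hw
      obtain ⟨n, rfl⟩ := hw
      exact ((show Commute x y from hyA x hx).zpow_right n).symm.eq
    · rw [Subgroup.zpowers_le]
      intro w hw
      obtain ⟨n, rfl⟩ := hw
      exact ((Commute.refl y).zpow_left n).eq
  have hBb := abelian_bound hE B fun x hx w hw => hBc hw x hx
  rw [hcard, show (2 : ℕ) * 2 ^ 25 = 2 ^ 13 * 2 ^ 13 by norm_num] at hBb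
  have hAB : A = B := Subgroup.eq_of_le_of_card_ge le_sup_left
    (by rw [hAM]; exact Nat.mul_self_le_mul_self_iff.1 hBb)
  have hyA' : y ∈ A := by rw [hAB]; exact Subgroup.mem_sup_right (Subgroup.mem_zpowers y)
  obtain ⟨_, ⟨q, hq, rfl⟩, hgq⟩ := hyA'.2
  have hgq' : g * (q : G) * g⁻¹ = ((y : Cz z) : G) := hgq
  -- `y` is not conjugate to `z`
  have hyc : y ∉ Subgroup.center Q := fun h =>
    cls_ne_zero (v := Spor.leechU) (by omega) (by omega) ((center_iff hE hψ hy.symm).1 h)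
  have hyz : ((y : Cz z) : G) ≠ z := fun h => hyc (by
    rw [show y = Z from Subtype.ext (Subtype.ext (h.trans hZz.symm))]; exact hZc)
  have hync : ¬ IsConj z ((y : Cz z) : G) := fun h => by
    obtain ⟨-, w, hw64, hw⟩ := class_of_conj hs hψ y h hyz
    rcases ThreeTransp.short_congr Spor.leechU.2 w.2 (by omega) (by omega)
        (cls_eq_iff.1 ((psi_eq_iff hE hψ).1 (hy.symm.trans hw.symm))) with e1 | e1 | ⟨e1, -, -⟩
    · rw [← e1] at hw64; omega
    · rw [e1, ThreeTransp.sqNorm_neg'] at hu32; omega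
    · omega
  -- transport to `t`
  have conj2 : ∀ p : Q, orderOf ((p : Cz z) : G) = 2 → ¬ IsConj z ((p : Cz z) : G) →
      ∃ k : G, k * z = z * k ∧ k * ((t : Cz z) : G) * k⁻¹ = ((p : Cz z) : G) := by
    intro p hp hpn
    obtain ⟨w, hw32, hw⟩ := class_of_not_conj hs hψ p hp hpn
    obtain ⟨h, hh⟩ := exists_co0_min v w hv32 hw32
    obtain ⟨k, hk⟩ := conj_of_cls hE hψ
      (fun hc => cls_ne_zero (v := w) (by omega) (by omega) ((center_iff hE hψ hw).1 hc)) h hv (by rw [hh, hw])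
    exact ⟨(k : G), Subgroup.mem_centralizer_singleton_iff.1 k.2, congrArg Subtype.val hk⟩
  have hy1 : orderOf ((y : Cz z) : G) = 2 := orderOf_eq_prime
    (by rw [pow_two]; exact congrArg (fun q : Q => ((q : Cz z) : G)) hy2)
    (fun h => hyc (by rw [show y = 1 from Subtype.ext (Subtype.ext h)]; exact one_mem _))
  obtain ⟨k, hkz, hk⟩ := conj2 y hy1 hync
  have hq1 : orderOf (q : G) = 2 := by
    rw [← hy1, ← hgq']
    exact (MulAut.conj g).orderOf_eq (q : G) ▸ rfl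
  have hqn : ¬ IsConj z (q : G) := fun h => hync (h.trans (isConj_iff.2 ⟨g, hgq'⟩))
  obtain ⟨k', hkz', hk'⟩ := conj2 ⟨q, hq⟩ hq1 hqn
  refine ⟨k⁻¹ * g * k', ?_, ?_, ?_⟩
  · calc k⁻¹ * g * k' * ((t : Cz z) : G) * (k⁻¹ * g * k')⁻¹
        = k⁻¹ * (g * (k' * ((t : Cz z) : G) * k'⁻¹) * g⁻¹) * k := by group
      _ = k⁻¹ * ((y : Cz z) : G) * k := by rw [hk', hgq']
      _ = ((t : Cz z) : G) := by rw [← hk]; group
  · have he : k⁻¹ * g * k' * z * (k⁻¹ * g * k')⁻¹ = k⁻¹ * ((a : Cz z) : G) * k := by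
      rw [← hg]
      calc k⁻¹ * g * k' * z * (k⁻¹ * g * k')⁻¹ = k⁻¹ * g * (k' * z) * k'⁻¹ * g⁻¹ * k := by group
        _ = k⁻¹ * (g * z * g⁻¹) * k := by rw [hkz']; group
    rw [he]
    intro h
    apply hne
    calc ((a : Cz z) : G) = k * (k⁻¹ * ((a : Cz z) : G) * k) * k⁻¹ := by group
      _ = z := by rw [h, hkz]; group
  · have he : k⁻¹ * g * k' * z * (k⁻¹ * g * k')⁻¹ = k⁻¹ * ((a : Cz z) : G) * k := by
      rw [← hg]
      calc k⁻¹ * g * k' * z * (k⁻¹ * g * k')⁻¹ = k⁻¹ * g * (k' * z) * k'⁻¹ * g⁻¹ * k := by group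
        _ = k⁻¹ * (g * z * g⁻¹) * k := by rw [hkz']; group
    set kC : Cz z := ⟨k, Subgroup.mem_centralizer_singleton_iff.2 hkz⟩
    have hmem : kC⁻¹ * (a : Cz z) * kC⁻¹⁻¹ ∈ Q := (inferInstance : Q.Normal).conj_mem _ a.2 kC⁻¹
    have hval : ((kC⁻¹ * (a : Cz z) * kC⁻¹⁻¹ : Cz z) : G) = k⁻¹ * g * k' * z * (k⁻¹ * g * k')⁻¹ := by
      rw [he]; simp [kC]
    exact ⟨hval ▸ (kC⁻¹ * (a : Cz z) * kC⁻¹⁻¹).2, by
      rw [show (⟨k⁻¹ * g * k' * z * (k⁻¹ * g * k')⁻¹, hval ▸ (kC⁻¹ * (a : Cz z) * kC⁻¹⁻¹).2⟩ : Cz z) = kC⁻¹ * (a : Cz z) * kC⁻¹⁻¹ from Subtype.ext hval.symm]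
      exact hmem⟩

end Cfsg.Agent.Lib.MonsterType
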