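import Cfsg.Agent.Lib.MonsterType.QOrbits

/-!
# The two orbits on involutions of the extraspecial subgroup
-/

set_option autoImplicit false

namespace Cfsg.Agent.Lib.MonsterType

open Cfsg Cfsg.Agent.Lib.Leech

variable {G : Type*} [Group G] [Finite G] {z : G}
  {Q : Subgroup (Subgroup.centralizer ({z} : Set G))} [Q.Normal]
  {e : (Subgroup.centralizer ({z} : Set G)) ⧸ Q ≃* Spor.Co1}
  {ψ : leechLattice → Q ⧸ Subgroup.center Q}

/-- The class of a conjugate of `z` in `Q` consists of vectors of squared length 64. -/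
theorem class_of_conj (hs : IsExtraspecialCentralizerSetting z Q 12) (hψ : IsLeechModTwoIso Q e ψ) (x : Q)
    (hx : IsConj z ((x : Subgroup.centralizer ({z} : Set G)) : G))
    (hxz : ((x : Subgroup.centralizer ({z} : Set G)) : G) ≠ z) :
    x ∉ Subgroup.center Q ∧
      ∃ v : leechLattice, sqNorm (v : GolayPt → ℤ) = 64 ∧ ψ v = QuotientGroup.mk x := by
  obtain ⟨Z, hZz, hZc, hZ1, hZall⟩ := center_eq hs
  have hxc : x ∉ Subgroup.center Q := by
    intro h
    rcases hZall x h with h1 | h1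
    · subst h1
      obtain ⟨g, hg⟩ := isConj_iff.1 hx
      have hz1 : z = 1 := by
        have : g * z * g⁻¹ = 1 := hg
        simpa using this
      have := hs.1
      rw [hz1, orderOf_one] at this
      omega
    · exact hxz (h1 ▸ hZz)
  obtain ⟨v, hv, hn⟩ := exists_class hs.2.2.1 hψ hxc
  obtain ⟨g, hg⟩ := isConj_iff.1 hx
  refine ⟨hxc, v, ?_, hv⟩
  have hcard : Nat.card Q = 2 ^ 25 := hs.2.2.2.1
  rcases hn with h | h | h
  · exact (not_short hs.2.2.1 hψ hcard ⟨Z, hZz, hZc, hZ1, hZall⟩ hv (Or.inl h) g hg).elim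
  · exact (not_short hs.2.2.1 hψ hcard ⟨Z, hZz, hZc, hZ1, hZall⟩ hv (Or.inr h) g hg).elim
  · exact h

/-- Elements of classes of vectors of squared length 64 are conjugate in the centraliser. -/
theorem conj_of_cross (hs : IsExtraspecialCentralizerSetting z Q 12) (hψ : IsLeechModTwoIso Q e ψ) {x y : Q}
    {v w : leechLattice} (hv : sqNorm (v : GolayPt → ℤ) = 64) (hw : sqNorm (w : GolayPt → ℤ) = 64)
    (hvx : ψ v = QuotientGroup.mk x) (hwy : ψ w = QuotientGroup.mk y) :
    ∃ h : Subgroup.centralizer ({z} : Set G),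
      h * (x : Subgroup.centralizer ({z} : Set G)) * h⁻¹ = y := by
  obtain ⟨g, hg⟩ := exists_co0_cross v w hv hw
  refine conj_of_cls hs.2.2.1 hψ (fun h => cls_ne_zero (v := w) (by omega) (by omega)
    ((center_iff hs.2.2.1 hψ hwy).1 h)) g hvx ?_
  rw [← hwy, psi_eq_iff hs.2.2.1 hψ, hg]

/-- An element of the class of a vector of squared length 64 is a conjugate of `z`, not `z`. -/
theorem conj_of_class (hs : IsExtraspecialCentralizerSetting z Q 12) (hψ : IsLeechModTwoIso Q e ψ) {x : Q}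
    {v : leechLattice} (hv : sqNorm (v : GolayPt → ℤ) = 64) (hvx : ψ v = QuotientGroup.mk x) :
    IsConj z ((x : Subgroup.centralizer ({z} : Set G)) : G) ∧
      ((x : Subgroup.centralizer ({z} : Set G)) : G) ≠ z := by
  obtain ⟨g, ⟨hq, hQ⟩, hne⟩ := hs.2.2.2.2
  obtain ⟨-, w, hw, hwy⟩ := class_of_conj hs hψ ⟨_, hQ⟩ (isConj_iff.2 ⟨g, rfl⟩) hne
  obtain ⟨h, hh⟩ := conj_of_cross hs hψ hw hv hwy hvx
  have hh' : (h : G) * (g * z * g⁻¹) * (h : G)⁻¹ = ((x : Subgroup.centralizer ({z} : Set G)) : G) :=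
    congrArg Subtype.val hh
  refine ⟨isConj_iff.2 ⟨(h : G) * g, by rw [← hh']; group⟩, fun hxz => hne ?_⟩
  have hhz : (h : G) * z = z * h := Subgroup.mem_centralizer_singleton_iff.1 h.2
  rw [hxz] at hh'
  calc g * z * g⁻¹ = (h : G)⁻¹ * ((h : G) * (g * z * g⁻¹) * (h : G)⁻¹) * h := by group
    _ = (h : G)⁻¹ * (z * h) := by rw [hh']; group
    _ = z := by rw [← hhz]; group

/-- Involutions of `Q` not conjugate to `z` correspond to shortest vectors. -/
theorem class_of_not_conj (hs : IsExtraspecialCentralizerSetting z Q 12) (hψ : IsLeechModTwoIso Q e ψ) (x : Q)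
    (hx : orderOf ((x : Subgroup.centralizer ({z} : Set G)) : G) = 2)
    (hxz : ¬ IsConj z ((x : Subgroup.centralizer ({z} : Set G)) : G)) :
    ∃ v : leechLattice, sqNorm (v : GolayPt → ℤ) = 32 ∧ ψ v = QuotientGroup.mk x := by
  obtain ⟨Z, hZz, hZc, hZ1, hZall⟩ := center_eq hs
  have hxc : x ∉ Subgroup.center Q := by
    intro h
    rcases hZall x h with h1 | h1
    · subst h1
      have : orderOf (1 : G) = 2 := hx
      rw [orderOf_one] at this
      omega
    · exact hxz (by rw [h1, hZz])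
  obtain ⟨v, hv, hn⟩ := exists_class hs.2.2.1 hψ hxc
  rcases hn with h | h | h
  · exact ⟨v, h, hv⟩
  · refine absurd (Subtype.ext (Subtype.ext ?_)) (sq_ne_one hs.2.2.1 hψ hv h)
    show ((x : Subgroup.centralizer ({z} : Set G)) : G) * (x : Subgroup.centralizer ({z} : Set G)) = 1
    rw [← pow_two, ← hx, pow_orderOf_eq_one]
  · exact absurd (conj_of_class hs hψ h hv).1 hxz

end Cfsg.Agent.Lib.MonsterType
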