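import Cfsg.Agent.Lib.MonsterType.Co1Facts
import Cfsg.Agent.Lib.ThreeTransp.LeechFormUnique
import Cfsg.Agent.Lib.ThreeTransp.LeechInvariantForm
import Cfsg.Agent.Lib.ThreeTransp.Extraspecial
import Cfsg.Agent.Lib.Cores.Fitting
import Cfsg.Agent.Lib.Cores.Frattini
import Cfsg.Agent.Lib.Components.GenFitting
import Cfsg.Prelude.Def_MonsterType

/-!
# The classes of involutions in the extraspecial subgroup of a group of Monster type
-/

set_option autoImplicit false
set_option linter.style.haveILetI false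
set_option linter.unusedSectionVars false

namespace Cfsg.Agent.Lib.MonsterType

open Cfsg Cfsg.Agent.Lib.Leech Cfsg.Agent.Lib.Compute

/-- The centraliser of a single element. -/
abbrev Cz {G : Type*} [Group G] (z : G) : Subgroup G := Subgroup.centralizer ({z} : Set G)

variable {G : Type*} [Group G] [Finite G] {z : G}
  {Q : Subgroup (Subgroup.centralizer ({z} : Set G))} [Q.Normal]

/-- The element `z` generates the centre of `Q`. -/
theorem center_eq (hs : IsExtraspecialCentralizerSetting z Q 12) :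
    ∃ Z : Q, ((Z : Subgroup.centralizer ({z} : Set G)) : G) = z ∧ Z ∈ Subgroup.center Q ∧ Z ≠ 1 ∧
      ∀ c ∈ Subgroup.center Q, c = 1 ∨ c = Z := by
  obtain ⟨hz, hF, hE, -, -⟩ := hs
  set zC : Subgroup.centralizer ({z} : Set G) := ⟨z, Subgroup.mem_centralizer_singleton_iff.2 rfl⟩
  have hcent : ∀ x : Subgroup.centralizer ({z} : Set G), x * zC = zC * x := fun x =>
    Subtype.ext (Subgroup.mem_centralizer_singleton_iff.1 x.2)
  have hzQ : zC ∈ Q := by
    rw [← hF]
    exact Components.fitting_le_genFitting (Cores.center_le_fittingSubgroup (Subgroup.mem_center_iff.2 hcent))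
  set Z : Q := ⟨zC, hzQ⟩ with hZdef
  have hZc : Z ∈ Subgroup.center Q := Subgroup.mem_center_iff.2 fun q => Subtype.ext (hcent _)
  have hZ1 : Z ≠ 1 := fun e => by
    have : z = 1 := congrArg (fun q : Q => ((q : Subgroup.centralizer ({z} : Set G)) : G)) e
    rw [this, orderOf_one] at hz; omega
  refine ⟨Z, rfl, hZc, hZ1, fun c hc => ?_⟩
  by_contra hcon
  push Not at hcon
  exact hcon.2 (ThreeTransp.extraspecial_center_eq (hE := hE) hc hZc hcon.1 hZ1)

variable (hE : Cfsg.IsExtraspecial 2 Q)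
include hE

theorem comm_mem (a b : Q) : a * b * a⁻¹ * b⁻¹ ∈ Subgroup.center Q := by
  rw [← hE.1.2.2, commutator_def]
  exact Subgroup.commutator_mem_commutator (Subgroup.mem_top a) (Subgroup.mem_top b)

theorem sq_mem (a : Q) : a * a ∈ Subgroup.center Q := by
  haveI : Fact (Nat.Prime 2) := ⟨Nat.prime_two⟩
  rw [← hE.1.2.1, ← pow_two]
  exact Cfsg.Agent.Lib.Cores.pow_mem_frattini hE.1.1 a

/-- Conjugation in `Q` swaps the two elements of a noncentral class. -/
theorem conj_swap {a b : Q} (ha : a ∉ Subgroup.center Q)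
    (h : (QuotientGroup.mk a : Q ⧸ Subgroup.center Q) = QuotientGroup.mk b) : ∃ q : Q, q * a * q⁻¹ = b := by
  by_cases hab : a = b
  · exact ⟨1, by rw [hab]; group⟩
  obtain ⟨q, hq⟩ : ∃ q : Q, ¬ q * a = a * q := by
    by_contra hcon
    push Not at hcon
    exact ha (Subgroup.mem_center_iff.2 hcon)
  refine ⟨q, ?_⟩
  have h1 := comm_mem hE q a
  have hne : q * a * q⁻¹ * a⁻¹ ≠ 1 := fun e => hq (mul_inv_eq_iff_eq_mul.1 (mul_inv_eq_one.1 e))
  have hne2 : a⁻¹ * b ≠ 1 := fun e => hab (inv_mul_eq_one.1 e)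
  have he := ThreeTransp.extraspecial_center_eq (hE := hE) h1 (QuotientGroup.eq.1 h) hne hne2
  calc q * a * q⁻¹ = (q * a * q⁻¹ * a⁻¹) * a := by group
    _ = a * (q * a * q⁻¹ * a⁻¹) := (Subgroup.mem_center_iff.1 h1 a).symm
    _ = b := by rw [he, mul_inv_cancel_left]

/-- The centraliser of a noncentral element has index 2. -/
theorem index_centralizer {a : Q} (ha : a ∉ Subgroup.center Q) :
    (Subgroup.centralizer ({a} : Set Q)).index = 2 := by
  let φ : Q →* Subgroup.center Q := MonoidHom.mk' (fun x => ⟨x * a * x⁻¹ * a⁻¹, comm_mem hE x a⟩) fun x y => by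
    apply Subtype.ext
    show x * y * a * (x * y)⁻¹ * a⁻¹ = (x * a * x⁻¹ * a⁻¹) * (y * a * y⁻¹ * a⁻¹)
    rw [Subgroup.mem_center_iff.1 (comm_mem hE y a) (x * a * x⁻¹ * a⁻¹)]
    calc x * y * a * (x * y)⁻¹ * a⁻¹ = x * (y * a * y⁻¹ * a⁻¹) * a * x⁻¹ * a⁻¹ := by group
      _ = (y * a * y⁻¹ * a⁻¹) * x * a * x⁻¹ * a⁻¹ := by rw [Subgroup.mem_center_iff.1 (comm_mem hE y a) x]
      _ = (y * a * y⁻¹ * a⁻¹) * (x * a * x⁻¹ * a⁻¹) := by group
  have hker : φ.ker = Subgroup.centralizer ({a} : Set Q) := by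
    ext x
    rw [MonoidHom.mem_ker, Subgroup.mem_centralizer_singleton_iff]
    constructor
    · intro h
      have h1 : x * a * x⁻¹ * a⁻¹ = 1 := congrArg Subtype.val h
      exact mul_inv_eq_iff_eq_mul.1 (mul_inv_eq_one.1 h1)
    · intro h
      exact Subtype.ext (show x * a * x⁻¹ * a⁻¹ = 1 by rw [h]; group)
  have h2 : Nat.card (Subgroup.center Q) = 2 := hE.2
  rw [← hker, Subgroup.index_ker]
  have hle : Nat.card φ.range ∣ 2 := h2 ▸ Subgroup.card_subgroup_dvd_card _
  rcases (Nat.dvd_prime Nat.prime_two).1 hle with h | h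
  · exfalso
    apply ha
    refine Subgroup.mem_center_iff.2 fun x => ?_
    have h1 : φ x = 1 := Subgroup.mem_bot.1 ((Subgroup.card_eq_one.1 h) ▸ MonoidHom.mem_range.2 ⟨x, rfl⟩)
    have h2' : x * a * x⁻¹ * a⁻¹ = 1 := congrArg Subtype.val h1
    exact mul_inv_eq_iff_eq_mul.1 (mul_inv_eq_one.1 h2')
  · exact h

/-- The centraliser of a noncentral element is not commutative. -/
theorem centralizer_not_comm (hcard : Nat.card Q = 2 ^ 25) {a : Q} (ha : a ∉ Subgroup.center Q) :
    ∃ x ∈ Subgroup.centralizer ({a} : Set Q), ∃ y ∈ Subgroup.centralizer ({a} : Set Q), x * y ≠ y * x := by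
  by_contra hcon
  push Not at hcon
  set A := Subgroup.centralizer ({a} : Set Q) with hA
  have hAi : A.index = 2 := index_centralizer hE ha
  obtain ⟨x, hx⟩ : ∃ x : Q, x ∉ A := by
    by_contra h
    push Not at h
    rw [show A = ⊤ from eq_top_iff.2 fun x _ => h x, Subgroup.index_top] at hAi
    omega
  have hxc : x ∉ Subgroup.center Q := fun h => hx (Subgroup.mem_centralizer_singleton_iff.2
    (Subgroup.mem_center_iff.1 h a).symm)
  set B := A ⊓ Subgroup.centralizer ({x} : Set Q) with hB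
  have hBc : B ≤ Subgroup.center Q := by
    intro b hb
    refine Subgroup.mem_center_iff.2 fun w => ?_
    by_cases hw : w ∈ A
    · exact hcon w hw b hb.1
    · have hwx : w * x ∈ A := (Subgroup.mul_mem_iff_of_index_two hAi).2 ⟨fun h => absurd h hw, fun h => absurd h hx⟩
      have h1 := hcon _ hwx b hb.1
      have h2 := Subgroup.mem_centralizer_singleton_iff.1 hb.2
      calc w * b = (w * x * b) * x⁻¹ := by rw [mul_assoc w x b, ← h2]; group
        _ = (b * (w * x)) * x⁻¹ := by rw [h1]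
        _ = b * w := by group
  have h1 := Subgroup.index_inf_le (H := A) (K := Subgroup.centralizer ({x} : Set Q))
  rw [← hB, hAi, index_centralizer hE hxc] at h1
  have h2 := Nat.le_of_dvd Nat.card_pos (Subgroup.card_dvd_of_le hBc)
  rw [hE.2] at h2
  have h3 := B.card_mul_index
  rw [hcard] at h3
  have h4 := Nat.mul_le_mul h2 h1
  omega

variable {e : (Subgroup.centralizer ({z} : Set G)) ⧸ Q ≃* Spor.Co1}
  {ψ : leechLattice → Q ⧸ Subgroup.center Q} (hψ : IsLeechModTwoIso Q e ψ)
include hψ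

theorem psi_zero : ψ 0 = 1 := (hψ.2.2.1 0).2 ⟨0, (add_zero 0).symm⟩

theorem psi_eq_iff {v w : leechLattice} : ψ v = ψ w ↔ cls v = cls w := by
  have h : ψ v = ψ (v - w) * ψ w := by rw [← hψ.1, sub_add_cancel]
  rw [h, mul_eq_right, hψ.2.2.1, cls_eq_iff]
  constructor
  · rintro ⟨u, hu⟩
    refine ⟨(u : GolayPt → ℤ), u.2, ?_⟩
    rw [← AddSubgroup.coe_sub, hu, AddSubgroup.coe_add, two_nsmul]
  · rintro ⟨u, hu, e'⟩
    exact ⟨⟨u, hu⟩, Subtype.ext (by rw [AddSubgroup.coe_sub, e', two_nsmul]; rfl)⟩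

theorem center_iff {v : leechLattice} {a : Q} (hv : ψ v = QuotientGroup.mk a) :
    a ∈ Subgroup.center Q ↔ cls v = cls 0 := by
  rw [← psi_eq_iff hE hψ, psi_zero hE hψ, hv, QuotientGroup.eq_one_iff]

theorem exists_class {a : Q} (ha : a ∉ Subgroup.center Q) : ∃ v : leechLattice, ψ v = QuotientGroup.mk a ∧
    (sqNorm (v : GolayPt → ℤ) = 32 ∨ sqNorm (v : GolayPt → ℤ) = 48 ∨ sqNorm (v : GolayPt → ℤ) = 64) := by
  obtain ⟨v, hv⟩ := hψ.2.1 (QuotientGroup.mk a)
  obtain ⟨w, hw, hn⟩ := exists_rep (v := v) (fun h => ha ((center_iff hE hψ hv).2 h))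
  exact ⟨w, by rw [← hv, psi_eq_iff hE hψ, hw], hn⟩

/-- Elements in corresponding classes are conjugate. -/
theorem conj_of_cls {a b : Q} (hb : b ∉ Subgroup.center Q) (g : Co0) {v : leechLattice}
    (hv : ψ v = QuotientGroup.mk a) (hgv : ψ (g • v) = QuotientGroup.mk b) :
    ∃ h : Subgroup.centralizer ({z} : Set G), h * (a : Subgroup.centralizer ({z} : Set G)) * h⁻¹ = b := by
  obtain ⟨h, hh⟩ := QuotientGroup.mk_surjective (e.symm (QuotientGroup.mk g))
  have h1 := hψ.2.2.2 h g (by rw [hh, e.apply_symm_apply]) v a hv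
  rw [hgv] at h1
  set a' : Q := ⟨h * a * h⁻¹, (inferInstance : Q.Normal).conj_mem (a : Subgroup.centralizer ({z} : Set G)) a.2 h⟩
  have ha' : a' ∉ Subgroup.center Q := by
    rw [← QuotientGroup.eq_one_iff, ← h1, QuotientGroup.eq_one_iff]; exact hb
  obtain ⟨q, hq⟩ := conj_swap hE ha' h1.symm
  refine ⟨(q : Subgroup.centralizer ({z} : Set G)) * h, ?_⟩
  rw [← hq]
  simp only [a', Subgroup.coe_mul, InvMemClass.coe_inv]
  group

open Cfsg.Agent.Lib.ThreeTransp in
/-- The squaring map is the natural quadratic form. -/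
theorem sq_ne_one {a : Q} {v : leechLattice} (hv : ψ v = QuotientGroup.mk a)
    (hn : sqNorm (v : GolayPt → ℤ) = 48) : a * a ≠ 1 := by
  classical
  let chi : Q → ZMod 2 := fun c => if c = 1 then 0 else 1
  have chi_zero : ∀ c, chi c = 0 ↔ c = 1 := fun c => by by_cases h : c = 1 <;> simp [chi, h]
  have chi_mul : ∀ c ∈ Subgroup.center Q, ∀ d ∈ Subgroup.center Q, chi (c * d) = chi c + chi d := by
    intro c hc d hd
    by_cases h1 : c = 1
    · subst h1; simp [chi]
    by_cases h2 : d = 1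
    · subst h2; simp [chi]
    obtain rfl := extraspecial_center_eq (hE := hE) hc hd h1 h2
    rw [show chi c = 1 by simp [chi, h1], show chi (c * c) = 0 by
      rw [chi_zero, ← pow_two, extraspecial_center_sq (hE := hE) hc]]
    rfl
  let bb : Q → Q → ZMod 2 := fun x y => chi (y * x * y⁻¹ * x⁻¹)
  have bb_mul : ∀ x y w : Q, bb (x * y) w = bb x w + bb y w := by
    intro x y w
    have h1 := comm_mem hE w x
    have h2 := comm_mem hE w y
    show chi (w * (x * y) * w⁻¹ * (x * y)⁻¹) = _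
    rw [show bb x w + bb y w = chi (w * x * w⁻¹ * x⁻¹) + chi (w * y * w⁻¹ * y⁻¹) from rfl,
      ← chi_mul _ h1 _ h2]
    congr 1
    have hz := Subgroup.mem_center_iff.mp h2 x
    calc w * (x * y) * w⁻¹ * (x * y)⁻¹
        = (w * x * w⁻¹ * x⁻¹) * (x * (w * y * w⁻¹ * y⁻¹)) * x⁻¹ := by group
      _ = (w * x * w⁻¹ * x⁻¹) * (w * y * w⁻¹ * y⁻¹) := by rw [hz]; group
  have sq_congr : ∀ x y : Q, (QuotientGroup.mk x : Q ⧸ Subgroup.center Q) = QuotientGroup.mk y → x * x = y * y := by
    intro x y h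
    obtain ⟨c, hc, rfl⟩ : ∃ c ∈ Subgroup.center Q, y = x * c := ⟨x⁻¹ * y, QuotientGroup.eq.mp h, by group⟩
    have hz := Subgroup.mem_center_iff.mp hc x
    calc x * x = x * x * c ^ 2 := by rw [extraspecial_center_sq (hE := hE) hc, mul_one]
      _ = x * (x * c) * c := by rw [pow_two]; group
      _ = x * (c * x) * c := by rw [hz]
      _ = x * c * (x * c) := by group
  let r : Lam → Q := fun w => (ψ w).out
  have hr : ∀ w, (QuotientGroup.mk (r w) : Q ⧸ Subgroup.center Q) = ψ w := fun w => QuotientGroup.out_eq' (ψ w)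
  let q : Lam → ZMod 2 := fun w => chi (r w * r w)
  have hq : ∀ (w : Lam) (x : Q), ψ w = QuotientGroup.mk x → q w = chi (x * x) := fun w x h =>
    congrArg chi (sq_congr _ _ ((hr w).trans h))
  have hqadd : ∀ u w, q (u + w) = q u + q w + bb (r u) (r w) := by
    intro u w
    rw [hq (u + w) (r u * r w) (by rw [hψ.1, QuotientGroup.mk_mul, hr, hr])]
    set x := r u; set y := r w
    have hg := comm_mem hE y x
    have hz := Subgroup.mem_center_iff.mp hg x
    have e' : x * y * (x * y) = (y * x * y⁻¹ * x⁻¹) * ((x * x) * (y * y)) := by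
      calc x * y * (x * y) = (x * (y * x * y⁻¹ * x⁻¹)) * x * y * y := by group
        _ = _ := by rw [hz]; group
    show chi (x * y * (x * y)) = chi (x * x) + chi (y * y) + chi (y * x * y⁻¹ * x⁻¹)
    rw [e', chi_mul _ hg _ (mul_mem (sq_mem hE x) (sq_mem hE y)), chi_mul _ (sq_mem hE x) _ (sq_mem hE y)]
    ring
  have hbmk : ∀ x x' y : Q, (QuotientGroup.mk x : Q ⧸ Subgroup.center Q) = QuotientGroup.mk x' →
      bb x y = bb x' y := by
    intro x x' y h
    obtain ⟨c, hc, rfl⟩ : ∃ c ∈ Subgroup.center Q, x' = x * c := ⟨x⁻¹ * x', QuotientGroup.eq.mp h, by group⟩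
    have : bb c y = 0 := by
      show chi _ = 0
      rw [chi_zero, Subgroup.mem_center_iff.mp hc y]; group
    rw [bb_mul, this, add_zero]
  have hconj : ∀ (g : ↥Co0) (w : Lam), q (g • w) = q w := by
    intro g w
    obtain ⟨h, hh⟩ := QuotientGroup.mk_surjective (e.symm (QuotientGroup.mk g))
    have h2 := hψ.2.2.2 h g (by rw [hh, e.apply_symm_apply]) w (r w) (hr w).symm
    rw [hq _ _ h2]
    show chi _ = chi _
    have hiff : ∀ c d : Q, (c = 1 ↔ d = 1) → chi c = chi d := fun c d h => by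
      by_cases hc : c = 1
      · simp [chi, hc, h.1 hc]
      · simp [chi, hc, mt h.2 hc]
    refine hiff _ _ (Subtype.ext_iff.trans (Iff.trans ?_ Subtype.ext_iff.symm))
    simp only [Subgroup.coe_mul, Subgroup.coe_one]
    have e' : ∀ x : Subgroup.centralizer ({z} : Set G), h * x * h⁻¹ * (h * x * h⁻¹) = h * (x * x) * h⁻¹ :=
      fun x => by group
    rw [e', conj_eq_one_iff]
  -- the natural form
  let q0 : Lam → ZMod 2 := fun w => ((sqNorm (w : GolayPt → ℤ) / 16 : ℤ) : ZMod 2)
  have hq0add : ∀ u w : Lam, q0 (u + w) = q0 u + q0 w + ((dotInt (u : GolayPt → ℤ) (w : GolayPt → ℤ) / 8 : ℤ) : ZMod 2) := by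
    intro u w
    obtain ⟨a', ha'⟩ := sixteen_dvd_sqNorm u.2
    obtain ⟨b', hb'⟩ := sixteen_dvd_sqNorm w.2
    obtain ⟨d', hd'⟩ := eight_dvd_dotInt u.2 w.2
    show ((sqNorm ((u : GolayPt → ℤ) + (w : GolayPt → ℤ)) / 16 : ℤ) : ZMod 2) =
      ((sqNorm (u : GolayPt → ℤ) / 16 : ℤ) : ZMod 2) + ((sqNorm (w : GolayPt → ℤ) / 16 : ℤ) : ZMod 2) + _
    rw [sqNorm_add, ha', hb', hd', Int.mul_ediv_cancel_left _ (by norm_num), Int.mul_ediv_cancel_left _ (by norm_num),
      Int.mul_ediv_cancel_left _ (by norm_num), show 16 * a' + 2 * (8 * d') + 16 * b' = 16 * (a' + b' + d') by ring,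
      Int.mul_ediv_cancel_left _ (by norm_num), Int.cast_add, Int.cast_add]
  have hdadd : ∀ u w x : Lam, ((dotInt ((u + w : Lam) : GolayPt → ℤ) (x : GolayPt → ℤ) / 8 : ℤ) : ZMod 2) =
      ((dotInt (u : GolayPt → ℤ) (x : GolayPt → ℤ) / 8 : ℤ) : ZMod 2) +
      ((dotInt (w : GolayPt → ℤ) (x : GolayPt → ℤ) / 8 : ℤ) : ZMod 2) := by
    intro u w x
    rw [AddSubgroup.coe_add, dotInt_add_left, Int.add_ediv_of_dvd_left (eight_dvd_dotInt u.2 x.2), Int.cast_add]
  let p : Lam → ZMod 2 := fun w => q w + q0 w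
  have hinv : InvForm p := by
    refine ⟨fun u w x => ?_, fun u w => ?_, fun σ hσ w => ?_, fun c hc w => ?_⟩
    · simp only [p]
      rw [hqadd (u + w) x, hqadd u x, hqadd w x, hq0add (u + w) x, hq0add u x, hq0add w x, hdadd,
        hbmk _ (r u * r w) (r x) (by rw [hr, hψ.1, QuotientGroup.mk_mul, hr, hr]), bb_mul]
      linear_combination (norm := ring_nf) z2_self (q (u + w)) + z2_self (q x) - z2_self (q u) - z2_self (q w)
        - z2_self (q x) - z2_self (q x) + z2_self (q0 (u + w)) + z2_self (q0 x) - z2_self (q0 u) - z2_self (q0 w)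
        - z2_self (q0 x) - z2_self (q0 x)
    · simp only [p]
      congr 1
      · refine hq _ (r u) ?_
        rw [hψ.1, (hψ.2.2.1 (w + w)).mpr ⟨w, rfl⟩, mul_one, hr]
      · have h1 : ((dotInt (u : GolayPt → ℤ) ((w + w : Lam) : GolayPt → ℤ) / 8 : ℤ) : ZMod 2) = 0 := by
          rw [dot_comm, hdadd, z2_self]
        have h2 : ((dotInt (w : GolayPt → ℤ) (w : GolayPt → ℤ) / 8 : ℤ) : ZMod 2) = 0 := by
          obtain ⟨b', hb'⟩ := sixteen_dvd_sqNorm w.2
          have hdd : dotInt (w : GolayPt → ℤ) (w : GolayPt → ℤ) = sqNorm (w : GolayPt → ℤ) := by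
            simp only [dotInt, sqNorm, sq]
          rw [hdd, hb', show (16 : ℤ) * b' = 8 * (b' + b') by ring,
            Int.mul_ediv_cancel_left _ (by norm_num), Int.cast_add, z2_self]
        rw [hq0add, hq0add, h1, h2, z2_self, add_zero, add_zero, add_zero]
    · obtain ⟨g, hg⟩ := exists_co0_perm hσ
      simp only [p, q0]
      rw [← hg, hconj, co0_sqNorm]
    · obtain ⟨g, hg⟩ := exists_co0_sign hc
      simp only [p, q0]
      rw [← hg, hconj, co0_sqNorm]
  obtain ⟨gξ, hgξ⟩ := exists_co0_xi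
  have hflag0 : pol q0 (octVec 0x149f) (vv (enc.symm 0) (enc.symm 5)) = 1 := by
    show q0 (_ + _) + q0 _ + q0 _ = 1
    decide +kernel
  by_cases hβ : pol p (octVec 0x149f) (vv (enc.symm 0) (enc.symm 5)) = 0
  · have hp := hinv.eq_zero (fun w => by simp only [p, q0]; rw [← hgξ, hconj, co0_sqNorm]) hβ v
    simp only [p, q0, hn] at hp
    intro haa
    rw [hq v a hv, (chi_zero _).2 haa] at hp
    revert hp
    decide
  · exfalso
    -- otherwise every square is trivial
    have hq2 : InvForm q := by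
      refine ⟨fun u w x => ?_, fun u w => ?_, fun σ hσ w => ?_, fun c hc w => ?_⟩
      · rw [hqadd (u + w) x, hqadd u x, hqadd w x,
          hbmk _ (r u * r w) (r x) (by rw [hr, hψ.1, QuotientGroup.mk_mul, hr, hr]), bb_mul]
        linear_combination (norm := ring_nf) z2_self (q (u + w)) + z2_self (q x) - z2_self (q u) - z2_self (q w)
          - z2_self (q x) - z2_self (q x)
      · refine hq _ (r u) ?_
        rw [hψ.1, (hψ.2.2.1 (w + w)).mpr ⟨w, rfl⟩, mul_one, hr]
      · obtain ⟨g, hg⟩ := exists_co0_perm hσ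
        rw [← hg, hconj]
      · obtain ⟨g, hg⟩ := exists_co0_sign hc
        rw [← hg, hconj]
    have hz2 : ∀ t : ZMod 2, t ≠ 0 → t = 1 := by decide
    have hβq : pol q (octVec 0x149f) (vv (enc.symm 0) (enc.symm 5)) = 0 := by
      have h1 := hz2 _ hβ
      simp only [pol, p] at h1 hflag0 ⊢
      linear_combination (norm := ring_nf) h1 - hflag0
    have hall := fun w => hq2.eq_zero (fun u => by rw [← hgξ, hconj]) hβq w
    have hsq : ∀ x : Q, x * x = 1 := by
      intro x
      obtain ⟨w, hw⟩ := hψ.2.1 (QuotientGroup.mk x)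
      rw [← chi_zero, ← hq w x hw]
      exact hall w
    have hc : Subgroup.center Q = ⊤ := eq_top_iff.2 fun x _ => Subgroup.mem_center_iff.2 fun y => by
      have h1 : ∀ t : Q, t⁻¹ = t := fun t => inv_eq_of_mul_eq_one_right (hsq t)
      calc y * x = (y * x)⁻¹ := (h1 _).symm
        _ = x * y := by rw [mul_inv_rev, h1, h1]
    have hcomm := hE.1.2.2
    rw [hc] at hcomm
    have hbot : commutator Q = ⊥ := by
      rw [commutator_def, Subgroup.commutator_eq_bot_iff_le_centralizer]
      intro x _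
      exact Subgroup.mem_centralizer_iff.2 fun y _ => Subgroup.mem_center_iff.1 (hc ▸ Subgroup.mem_top x) y
    rw [hbot] at hcomm
    have h2 := hE.2
    rw [hc, ← hcomm, Subgroup.card_bot] at h2
    omega

/-- A conjugate of `z` in `Q` does not lie in the class of a vector of squared length 32 or 48. -/
theorem not_short (hcard : Nat.card Q = 2 ^ 25) (hZ : ∃ Z : Q,
      ((Z : Subgroup.centralizer ({z} : Set G)) : G) = z ∧ Z ∈ Subgroup.center Q ∧ Z ≠ 1 ∧
        ∀ c ∈ Subgroup.center Q, c = 1 ∨ c = Z)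
    {a : Q} {v : leechLattice} (hv : ψ v = QuotientGroup.mk a)
    (hn : sqNorm (v : GolayPt → ℤ) = 32 ∨ sqNorm (v : GolayPt → ℤ) = 48)
    (g : G) (hg : g * z * g⁻¹ = ((a : Subgroup.centralizer ({z} : Set G)) : G)) : False := by
  classical
  haveI := finite_co0
  obtain ⟨Z, hZz, hZc, hZ1, hZall⟩ := hZ
  obtain ⟨n, hnc, hneg, hcases⟩ := exists_negation
  haveI : Fact (Nat.Prime 2) := ⟨Nat.prime_two⟩
  haveI : Fact (Nat.Prime 23) := ⟨by norm_num⟩
  set s : G := ((a : (Cz z)) : G) with hsdef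
  have hac : a ∉ Subgroup.center Q := fun h =>
    cls_ne_zero (v := v) (by omega) (by omega) ((center_iff hE hψ hv).1 h)
  let K : Subgroup G := (Cz z) ⊓ Subgroup.centralizer ({s} : Set G)
  let incl : K →* (Cz z) := Subgroup.inclusion inf_le_left
  have hpull : ∀ k : K, g⁻¹ * (k : G) * g ∈ (Cz z) := by
    intro k
    rw [Subgroup.mem_centralizer_singleton_iff]
    have h1 : (k : G) * s = s * k := Subgroup.mem_centralizer_singleton_iff.1 k.2.2
    rw [← hg] at h1
    calc g⁻¹ * (k : G) * g * z = g⁻¹ * ((k : G) * (g * z * g⁻¹)) * g := by group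
      _ = g⁻¹ * (g * z * g⁻¹ * k) * g := by rw [h1]
      _ = z * (g⁻¹ * (k : G) * g) := by group
  let ι : K →* (Cz z) := MonoidHom.mk' (fun k => ⟨g⁻¹ * (k : G) * g, hpull k⟩) fun x y => Subtype.ext (by
    show g⁻¹ * ((x : G) * y) * g = g⁻¹ * (x : G) * g * (g⁻¹ * y * g)
    group)
  let β : K →* Spor.Co1 := e.toMonoidHom.comp ((QuotientGroup.mk' Q).comp incl)
  let γ : K →* Spor.Co1 := e.toMonoidHom.comp ((QuotientGroup.mk' Q).comp ι)
  have hβker : ∀ k : K, k ∈ β.ker ↔ incl k ∈ Q := by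
    intro k
    rw [MonoidHom.mem_ker, ← QuotientGroup.eq_one_iff]
    simp [β]
  have hγker : ∀ k : K, k ∈ γ.ker ↔ ι k ∈ Q := by
    intro k
    rw [MonoidHom.mem_ker, ← QuotientGroup.eq_one_iff]
    simp [γ]
  set St := MulAction.stabilizer ↥Co0 v with hSt
  obtain ⟨hStS, hSt23⟩ := stab_simple hn
  let f : St →* Spor.Co1 := (QuotientGroup.mk' (Subgroup.center ↥Co0)).comp St.subtype
  have hfinj : Function.Injective f := by
    rw [injective_iff_map_eq_one]
    intro x hx
    have hxc : (x : ↥Co0) ∈ Subgroup.center ↥Co0 := (QuotientGroup.eq_one_iff _).1 hx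
    rcases hcases _ hxc with h | h
    · exact Subtype.ext h
    · exfalso
      have h1 : (x : ↥Co0) • v = v := x.2
      rw [h, hneg] at h1
      have h2 : ∀ i, (v : GolayPt → ℤ) i = 0 := fun i => by
        have := congrFun (congrArg Subtype.val h1) i
        simp only [AddSubgroup.coe_neg, Pi.neg_apply] at this
        omega
      rw [show (v : GolayPt → ℤ) = 0 from funext h2, sqNorm_zero] at hn
      omega
  have hrange : β.range = f.range := by
    ext x
    constructor
    · rintro ⟨k, rfl⟩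
      obtain ⟨g0, hg0⟩ := QuotientGroup.mk_surjective (β k)
      have h1 := hψ.2.2.2 (incl k) g0 hg0 v a hv
      have hfix : incl k * (a : (Cz z)) * (incl k)⁻¹ = a := Subtype.ext (by
        show (k : G) * s * (k : G)⁻¹ = s
        rw [Subgroup.mem_centralizer_singleton_iff.1 k.2.2]; group)
      have h2 : ψ (g0 • v) = ψ v := by
        rw [h1, hv]; exact congrArg QuotientGroup.mk (Subtype.ext hfix)
      rcases eq_or_neg (by omega) (co0_sqNorm g0 v) ((psi_eq_iff hE hψ).1 h2) with h3 | h3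
      · exact ⟨⟨g0, h3⟩, hg0⟩
      · refine ⟨⟨n * g0, by rw [hSt, MulAction.mem_stabilizer_iff, mul_smul, h3, hneg, neg_neg]⟩, ?_⟩
        show (QuotientGroup.mk (n * g0) : Spor.Co1) = _
        rw [QuotientGroup.mk_mul, (QuotientGroup.eq_one_iff n).2 hnc, one_mul, hg0]
    · rintro ⟨⟨g0, hg0⟩, rfl⟩
      obtain ⟨h, hh⟩ := QuotientGroup.mk_surjective (e.symm (QuotientGroup.mk g0))
      have h1 := hψ.2.2.2 h g0 (by rw [hh, e.apply_symm_apply]) v a hv
      set a' : Q := ⟨h * a * h⁻¹, (inferInstance : Q.Normal).conj_mem (a : (Cz z)) a.2 h⟩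
      have h2 : (QuotientGroup.mk a : Q ⧸ Subgroup.center Q) = QuotientGroup.mk a' := by
        rw [← hv, ← h1, show g0 • v = v from hg0]
      have ha' : a' ∉ Subgroup.center Q := by
        rw [← QuotientGroup.eq_one_iff, ← h2, QuotientGroup.eq_one_iff]; exact hac
      obtain ⟨q, hq⟩ := conj_swap hE ha' h2.symm
      set k0 : (Cz z) := (q : (Cz z)) * h
      have hk0 : k0 * (a : (Cz z)) * k0⁻¹ = a := by
        conv_rhs => rw [← hq]
        simp only [k0, a', Subgroup.coe_mul, InvMemClass.coe_inv]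
        group
      refine ⟨⟨(k0 : G), k0.2, Subgroup.mem_centralizer_singleton_iff.2 ?_⟩, ?_⟩
      · have := congrArg (fun x : (Cz z) => (x : G)) hk0
        simp only [Subgroup.coe_mul, InvMemClass.coe_inv] at this
        exact mul_inv_eq_iff_eq_mul.1 this
      · show e (QuotientGroup.mk k0) = _
        rw [QuotientGroup.mk_mul, (QuotientGroup.eq_one_iff (q : (Cz z))).2 q.2, one_mul, hh, e.apply_symm_apply]
        rfl
  have hcardR : 23 ∣ Nat.card β.range := by
    rw [hrange, ← Nat.card_congr (MonoidHom.ofInjective hfinj).toEquiv]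
    exact hSt23
  haveI hRsimple : IsSimpleGroup β.range := by
    haveI := hStS
    exact ((MulEquiv.subgroupCongr hrange).trans (MonoidHom.ofInjective hfinj).symm).isSimpleGroup
  have hQ2 : IsPGroup 2 Q := hE.1.1
  have hιinj : Function.Injective ι := fun x y h => Subtype.ext (by
    have h' : g⁻¹ * (x : G) * g = g⁻¹ * (y : G) * g := congrArg Subtype.val h
    simpa using h')
  have hγ2 : IsPGroup 2 γ.ker := by
    let j : γ.ker →* Q := MonoidHom.mk' (fun k => ⟨ι k.1, (hγker k.1).1 k.2⟩) fun x y => Subtype.ext (map_mul ι _ _)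
    exact hQ2.of_injective j fun x y h => Subtype.ext (hιinj (congrArg Subtype.val h))
  have hle : γ.ker ≤ β.ker := by
    intro k hk
    have hN : (γ.ker.map β.rangeRestrict).Normal :=
      Subgroup.Normal.map inferInstance _ β.rangeRestrict_surjective
    rcases hN.eq_bot_or_eq_top with h | h
    · have h1 : β.rangeRestrict k ∈ γ.ker.map β.rangeRestrict := Subgroup.mem_map_of_mem _ hk
      rw [h, Subgroup.mem_bot] at h1
      exact MonoidHom.mem_ker.2 (congrArg Subtype.val h1)
    · exfalso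
      have h1 : IsPGroup 2 (⊤ : Subgroup β.range) := h ▸ hγ2.map β.rangeRestrict
      obtain ⟨m, hm⟩ := (IsPGroup.iff_card).1 h1
      rw [Subgroup.card_top] at hm
      rw [hm] at hcardR
      have := (Nat.Prime.dvd_of_dvd_pow (by norm_num : Nat.Prime 23) hcardR)
      norm_num at this
  have hzK : z ∈ K := ⟨Subgroup.mem_centralizer_singleton_iff.2 rfl,
    Subgroup.mem_centralizer_singleton_iff.2 (Subgroup.mem_centralizer_singleton_iff.1 (a : (Cz z)).2).symm⟩
  set zK : K := ⟨z, hzK⟩ with hzKdef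
  by_cases hcase : γ zK = 1
  · -- the symmetric case
    set b : Q := ⟨ι zK, (hγker zK).1 hcase⟩ with hb
    have hbc : b ∉ Subgroup.center Q := by
      intro h
      have hbz : g⁻¹ * z * g = z := by
        rcases hZall b h with h1 | h1
        · exfalso
          have h2 : g⁻¹ * z * g = 1 := congrArg (fun q : Q => ((q : (Cz z)) : G)) h1
          have h3 : z = 1 := by
            calc z = g * (g⁻¹ * z * g) * g⁻¹ := by group
              _ = 1 := by rw [h2]; group
          apply hZ1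
          exact Subtype.ext (Subtype.ext (hZz.trans h3))
        · exact (congrArg (fun q : Q => ((q : (Cz z)) : G)) h1).trans hZz
      apply hac
      rw [show a = Z from Subtype.ext (Subtype.ext ?_)]
      · exact hZc
      · rw [hZz, ← hsdef, ← hg]
        calc g * z * g⁻¹ = g * (g⁻¹ * z * g) * g⁻¹ := by rw [hbz]
          _ = z := by group
    have e1 : Nat.card β.ker = Nat.card (Subgroup.centralizer ({a} : Set Q)) := by
      refine Nat.card_congr
        { toFun := fun k => ⟨⟨incl k.1, (hβker k.1).1 k.2⟩, Subgroup.mem_centralizer_singleton_iff.2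
            (Subtype.ext (Subtype.ext (Subgroup.mem_centralizer_singleton_iff.1 k.1.2.2)))⟩
          invFun := fun x => ⟨⟨((x.1 : (Cz z)) : G), (x.1 : (Cz z)).2, Subgroup.mem_centralizer_singleton_iff.2
            (congrArg (fun q : Q => ((q : (Cz z)) : G)) (Subgroup.mem_centralizer_singleton_iff.1 x.2))⟩,
            (hβker _).2 x.1.2⟩
          left_inv := fun k => rfl
          right_inv := fun x => rfl }
    have e2 : Nat.card γ.ker = Nat.card (Subgroup.centralizer ({b} : Set Q)) := by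
      refine Nat.card_eq_of_bijective
        (fun k => ⟨⟨ι k.1, (hγker k.1).1 k.2⟩, Subgroup.mem_centralizer_singleton_iff.2
          (Subtype.ext (show ι k.1 * ι zK = ι zK * ι k.1 by
            rw [← map_mul, ← map_mul]
            exact congrArg ι (Subtype.ext (Subgroup.mem_centralizer_singleton_iff.1 k.1.2.1))))⟩)
        ⟨fun x y h => ?_, fun x => ?_⟩
      · exact Subtype.ext (hιinj (congrArg (fun t : Subgroup.centralizer ({b} : Set Q) => (t.1 : (Cz z))) h))
      · have hxz : ((x.1 : (Cz z)) : G) * z = z * (x.1 : (Cz z)) := Subgroup.mem_centralizer_singleton_iff.1 (x.1 : (Cz z)).2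
        have hxb : ((x.1 : (Cz z)) : G) * (g⁻¹ * z * g) = g⁻¹ * z * g * (x.1 : (Cz z)) :=
          congrArg (fun q : Q => ((q : (Cz z)) : G)) (Subgroup.mem_centralizer_singleton_iff.1 x.2)
        have hmem : g * ((x.1 : (Cz z)) : G) * g⁻¹ ∈ K := by
          refine ⟨Subgroup.mem_centralizer_singleton_iff.2 ?_, Subgroup.mem_centralizer_singleton_iff.2 ?_⟩
          · calc g * ((x.1 : (Cz z)) : G) * g⁻¹ * z = g * (((x.1 : (Cz z)) : G) * (g⁻¹ * z * g)) * g⁻¹ := by group
              _ = g * (g⁻¹ * z * g * (x.1 : (Cz z))) * g⁻¹ := by rw [hxb]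
              _ = z * (g * ((x.1 : (Cz z)) : G) * g⁻¹) := by group
          · rw [← hg]
            calc g * ((x.1 : (Cz z)) : G) * g⁻¹ * (g * z * g⁻¹) = g * (((x.1 : (Cz z)) : G) * z) * g⁻¹ := by group
              _ = g * (z * (x.1 : (Cz z))) * g⁻¹ := by rw [hxz]
              _ = g * z * g⁻¹ * (g * ((x.1 : (Cz z)) : G) * g⁻¹) := by group
        have hι : ι ⟨_, hmem⟩ = (x.1 : (Cz z)) := Subtype.ext (show g⁻¹ * (g * ((x.1 : (Cz z)) : G) * g⁻¹) * g = _ by group)
        exact ⟨⟨⟨_, hmem⟩, (hγker _).2 (by rw [hι]; exact x.1.2)⟩, Subtype.ext (Subtype.ext hι)⟩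
    have ha2 := (Subgroup.centralizer ({a} : Set Q)).card_mul_index
    have hb2 := (Subgroup.centralizer ({b} : Set Q)).card_mul_index
    rw [index_centralizer hE hac, ← e1, hcard] at ha2
    rw [index_centralizer hE hbc, ← e2, hcard] at hb2
    have heq : γ.ker = β.ker := Subgroup.eq_of_le_of_card_ge hle (by omega)
    obtain ⟨x, hx, y, hy, hxy⟩ := centralizer_not_comm hE hcard hac
    have lift : ∀ w ∈ Subgroup.centralizer ({a} : Set Q), ∃ k : K, (k : G) = ((w : (Cz z)) : G) ∧ ι k ∈ Q := by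
      intro w hw
      refine ⟨⟨((w : (Cz z)) : G), (w : (Cz z)).2, Subgroup.mem_centralizer_singleton_iff.2
        (congrArg (fun q : Q => ((q : (Cz z)) : G)) (Subgroup.mem_centralizer_singleton_iff.1 hw))⟩, rfl, ?_⟩
      exact (hγker _).1 (heq ▸ (hβker _).2 w.2)
    obtain ⟨kx, hkx, hkxQ⟩ := lift x hx
    obtain ⟨ky, hky, hkyQ⟩ := lift y hy
    have c1 := hZall _ (comm_mem hE x y)
    have c2 := hZall _ (comm_mem hE ⟨ι kx, hkxQ⟩ ⟨ι ky, hkyQ⟩)
    rcases c1 with c1 | c1
    · exact hxy (mul_inv_eq_iff_eq_mul.1 (mul_inv_eq_one.1 c1))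
    have d1 : ((x : (Cz z)) : G) * (y : (Cz z)) * ((x : (Cz z)) : G)⁻¹ * ((y : (Cz z)) : G)⁻¹ = z := by
      exact (congrArg (fun q : Q => ((q : (Cz z)) : G)) c1).trans hZz
    have dg : ∀ t : G, g⁻¹ * ((x : (Cz z)) : G) * g * (g⁻¹ * (y : (Cz z)) * g) * (g⁻¹ * ((x : (Cz z)) : G) * g)⁻¹ *
        (g⁻¹ * (y : (Cz z)) * g)⁻¹ = t → g⁻¹ * z * g = t := by
      intro t ht
      exact (congrArg (fun w : G => g⁻¹ * w * g) d1.symm).trans (Eq.trans (by group) ht)
    rcases c2 with c2 | c2
    · have h2 := dg 1 (by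
        have := congrArg (fun q : Q => ((q : (Cz z)) : G)) c2
        simpa [ι, hkx, hky] using this)
      apply hZ1
      refine Subtype.ext (Subtype.ext (hZz.trans ?_))
      calc z = g * (g⁻¹ * z * g) * g⁻¹ := by group
        _ = 1 := by rw [h2]; group
    · have h2 := dg z (Eq.trans (by
        have := congrArg (fun q : Q => ((q : (Cz z)) : G)) c2
        simpa [ι, hkx, hky] using this) hZz)
      apply hac
      rw [show a = Z from Subtype.ext (Subtype.ext ?_)]
      · exact hZc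
      · rw [hZz, ← hsdef, ← hg]
        calc g * z * g⁻¹ = g * (g⁻¹ * z * g) * g⁻¹ := by rw [h2]
          _ = z := by group
  · -- otherwise an involution would commute with an element of order 23
    have hd : 23 ∣ Nat.card K := hcardR.trans (Subgroup.card_range_dvd β)
    obtain ⟨k, hk⟩ := exists_prime_orderOf_dvd_card' (G := K) 23 hd
    have hk1 : γ k ≠ 1 := by
      intro h
      obtain ⟨m, hm⟩ := hγ2 ⟨k, MonoidHom.mem_ker.2 h⟩
      have h2 : orderOf k ∣ 2 ^ m := orderOf_dvd_of_pow_eq_one (congrArg Subtype.val hm)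
      rw [hk] at h2
      have := Nat.Prime.dvd_of_dvd_pow (by norm_num : Nat.Prime 23) h2
      norm_num at this
    have hz2 : zK ^ 2 = 1 := Subtype.ext (by
      show z ^ 2 = 1
      have := congrArg (fun q : Q => ((q : (Cz z)) : G)) (ThreeTransp.extraspecial_center_sq (hE := hE) hZc)
      simpa [hZz] using this)
    refine co1_no_commuting (γ k) (γ zK)
      (orderOf_eq_prime (by rw [← map_pow, ← hk, pow_orderOf_eq_one, map_one]) hk1)
      (orderOf_eq_prime (by rw [← map_pow, hz2, map_one]) hcase) ?_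
    rw [← map_mul, ← map_mul]
    exact congrArg γ (Subtype.ext (Subgroup.mem_centralizer_singleton_iff.1 k.2.1))

end Cfsg.Agent.Lib.MonsterType
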