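import Cfsg.Agent.Lib.MonsterType.Orbits
import Cfsg.Agent.Lib.Leech.CrossSub

/-!
# Squares and commutation in the extraspecial subgroup, and a vector orthogonality criterion
-/

set_option autoImplicit false
set_option linter.style.haveILetI false
set_option linter.unusedSectionVars false

namespace Cfsg.Agent.Lib.MonsterType

open Cfsg Cfsg.Agent.Lib.Leech Cfsg.Agent.Lib.Compute

/-- A codeword inside the fixed octad is trivial or the octad. -/
theorem octad_sub : (0x800c75 ∈ codeList) ∧ (codeList.all fun m => !((List.range 24).all fun i =>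
    !m.testBit i || (0x800c75 : ℕ).testBit i) || m == 0 || m == 0x800c75) = true := by
  refine ⟨mem_codeList_of_inCode (by decide +kernel), ?_⟩
  decide +kernel

/-- Congruent vectors have squared lengths congruent modulo 32. -/
theorem dvd32_congr {v w : ↥leechLattice} (h : cls v = cls w) :
    (32 : ℤ) ∣ sqNorm (v : GolayPt → ℤ) ↔ (32 : ℤ) ∣ sqNorm (w : GolayPt → ℤ) := by
  obtain ⟨u, hu, e⟩ := cls_eq_iff.1 h
  have hv : (v : GolayPt → ℤ) = (w : GolayPt → ℤ) + (u + u) := by
    rw [← two_nsmul, ← e]; abel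
  obtain ⟨d, hd⟩ := eight_dvd_dotInt w.2 hu
  obtain ⟨k, hk⟩ := sixteen_dvd_sqNorm hu
  have h1 : sqNorm (v : GolayPt → ℤ) = sqNorm (w : GolayPt → ℤ) + 32 * (d + 2 * k) := by
    have h2 : sqNorm (v : GolayPt → ℤ) =
        sqNorm (w : GolayPt → ℤ) + 4 * dotInt (w : GolayPt → ℤ) u + 4 * sqNorm u := by
      rw [hv]
      simp only [sqNorm, dotInt, Finset.mul_sum, Pi.add_apply, ← Finset.sum_add_distrib]
      exact Finset.sum_congr rfl fun i _ => by ring
    rw [h2, hd, hk]; ring
  rw [h1]
  exact ⟨fun h => (dvd_add_left (dvd_mul_right 32 _)).1 h, fun h => dvd_add h (dvd_mul_right 32 _)⟩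

/-- A vector whose class is moved at most by the frame class under the octad sign change is orthogonal
modulo 16 to the vector (4,4,0,...). -/
theorem four_orth (ε : ↥Co0) (hε : ∀ (v : ↥leechLattice) (q : GolayPt),
      ((ε • v : ↥leechLattice) : GolayPt → ℤ) q =
        if q ∈ setOf24 0x800c75 then -(v : GolayPt → ℤ) q else (v : GolayPt → ℤ) q)
    (w : ↥leechLattice) (h : cls (ε • w) = cls w ∨ cls (ε • w) = cls (w + eightAt none)) :
    (16 : ℤ) ∣ dotInt (w : GolayPt → ℤ) (Spor.leechU : GolayPt → ℤ) := by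
  obtain ⟨δ, hδ, u, hu, hq⟩ : ∃ δ : ℤ, (δ = 0 ∨ δ = 4) ∧ ∃ u ∈ leechLattice, ∀ q,
      u q = (if q ∈ setOf24 0x800c75 then -(w : GolayPt → ℤ) q else 0) - (if q = none then δ else 0) := by
    rcases h with h | h
    · obtain ⟨u, hu, e⟩ := cls_eq_iff.1 h
      refine ⟨0, Or.inl rfl, u, hu, fun q => ?_⟩
      have h1 := congrFun e q
      simp only [Pi.sub_apply, hε, two_nsmul, Pi.add_apply] at h1
      split_ifs at h1 ⊢ <;> omega
    · obtain ⟨u, hu, e⟩ := cls_eq_iff.1 h
      refine ⟨4, Or.inr rfl, u, hu, fun q => ?_⟩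
      have h1 := congrFun e q
      simp only [Pi.sub_apply, hε, two_nsmul, Pi.add_apply, AddSubgroup.coe_add] at h1
      rw [show (eightAt none : GolayPt → ℤ) q = if q = none then 8 else 0 from Pi.single_apply none 8 q] at h1
      split_ifs at h1 ⊢ <;> omega
  obtain ⟨p, hp, m, hm, h4, -⟩ := form_of_lattice hu
  have hbit : ∀ q : GolayPt, q ∈ setOf24 0x800c75 ↔ (0x800c75 : ℕ).testBit (enc q) = true := fun q => mem_setOf24
  have hout : ∀ q : GolayPt, q ∉ setOf24 0x800c75 → p = 0 ∧ m.testBit (enc q) = false := by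
    intro q hqc
    have h1 := h4 q
    rw [hq, if_neg hqc] at h1
    have hne : q ≠ none := fun e => hqc (e ▸ (hbit none).2 (by decide +kernel))
    rw [if_neg hne] at h1
    unfold res at h1
    interval_cases p <;> cases hb : m.testBit (enc q) <;> simp [hb] at h1 ⊢
  have hp0 : p = 0 := (hout (some 1) (fun e => by
    have := (hbit (some 1)).1 e
    revert this
    decide +kernel)).1
  subst hp0
  have hsub : (List.range 24).all (fun i => !m.testBit i || (0x800c75 : ℕ).testBit i) = true := by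
    rw [List.all_eq_true]
    intro i hi
    rw [List.mem_range] at hi
    by_cases hc : (0x800c75 : ℕ).testBit i = true
    · simp [hc]
    · have hi' : enc (enc.symm (⟨i, hi⟩ : Fin 24)) = (⟨i, hi⟩ : Fin 24) := enc.apply_symm_apply _
      have h1 := (hout (enc.symm ⟨i, hi⟩) (fun e => hc (by have := (hbit _).1 e; rwa [hi'] at this))).2
      rw [hi'] at h1
      simp [h1]
  have hall := List.all_eq_true.1 octad_sub.2 m hm
  rw [hsub] at hall
  simp only [Bool.not_true, Bool.false_or, Bool.or_eq_true, beq_iff_eq] at hall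
  have hn : (none : GolayPt) ∈ setOf24 0x800c75 := (hbit none).2 (by decide +kernel)
  have h0 : (some 0 : GolayPt) ∈ setOf24 0x800c75 := (hbit (some 0)).2 (by decide +kernel)
  have hb : m.testBit (enc (none : GolayPt)) = m.testBit (enc (some 0 : GolayPt)) := by
    rcases hall with rfl | rfl
    · simp
    · rw [(hbit none).1 hn, (hbit (some 0)).1 h0]
  have e1 := h4 none
  have e2 := h4 (some 0)
  rw [hq, if_pos hn, if_pos rfl, hb] at e1
  rw [hq, if_pos h0, if_neg (by simp)] at e2
  have hdot : dotInt (w : GolayPt → ℤ) (Spor.leechU : GolayPt → ℤ) =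
      4 * ((w : GolayPt → ℤ) none + (w : GolayPt → ℤ) (some 0)) := by
    show dotInt _ Spor.vecU = _
    rw [dotInt, Finset.sum_eq_add none (some 0) (by simp)]
    · simp [Spor.vecU]; ring
    · intro q _ hq'
      simp [Spor.vecU, hq'.1, hq'.2]
    · simp
    · simp
  rw [hdot]
  unfold res at e1 e2
  cases hb2 : m.testBit (enc (some 0 : GolayPt)) <;> simp [hb2] at e1 e2 <;> omega

variable {G : Type*} [Group G] [Finite G] {z : G}
  {Q : Subgroup (Subgroup.centralizer ({z} : Set G))} [Q.Normal]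
  {e : (Subgroup.centralizer ({z} : Set G)) ⧸ Q ≃* Spor.Co1}
  {ψ : leechLattice → Q ⧸ Subgroup.center Q}

/-- An element squares to one exactly when its class has squared length divisible by 32. -/
theorem sq_iff (hs : IsExtraspecialCentralizerSetting z Q 12) (hψ : IsLeechModTwoIso Q e ψ) {t : Q}
    {v : leechLattice} (hv : ψ v = QuotientGroup.mk t) (hn : sqNorm (v : GolayPt → ℤ) = 32) (ht : t * t = 1)
    {x : Q} {w : leechLattice} (hw : ψ w = QuotientGroup.mk x) :
    x * x = 1 ↔ (32 : ℤ) ∣ sqNorm (w : GolayPt → ℤ) := by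
  have hE := hs.2.2.1
  by_cases hx : x ∈ Subgroup.center Q
  · refine iff_of_true ?_ ?_
    · rw [← pow_two]; exact ThreeTransp.extraspecial_center_sq (hE := hE) hx
    · rw [dvd32_congr ((center_iff hE hψ hw).1 hx), AddSubgroup.coe_zero, sqNorm_zero]; exact dvd_zero _
  obtain ⟨w', hw', hn'⟩ := exists_class hE hψ hx
  rw [dvd32_congr (show cls w = cls w' from (psi_eq_iff hE hψ).1 (hw.trans hw'.symm))]
  rcases hn' with h | h | h
  · refine iff_of_true ?_ (by rw [h])
    obtain ⟨g, hg⟩ := exists_co0_min v w' hn h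
    obtain ⟨k, hk⟩ := conj_of_cls hE hψ hx g hv (by rw [hg, hw'])
    refine Subtype.ext ?_
    show (x : Subgroup.centralizer ({z} : Set G)) * (x : Subgroup.centralizer ({z} : Set G)) = 1
    rw [← hk]
    have ht' : (t : Subgroup.centralizer ({z} : Set G)) * (t : Subgroup.centralizer ({z} : Set G)) = 1 :=
      congrArg Subtype.val ht
    calc k * (t : Subgroup.centralizer ({z} : Set G)) * k⁻¹ * (k * t * k⁻¹)
        = k * ((t : Subgroup.centralizer ({z} : Set G)) * t) * k⁻¹ := by group
      _ = 1 := by rw [ht']; group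
  · refine iff_of_false (sq_ne_one hE hψ hw' h) (by rw [h]; norm_num)
  · refine iff_of_true ?_ (by rw [h]; norm_num)
    obtain ⟨g, hg⟩ := isConj_iff.1 (conj_of_class hs hψ h hw').1
    refine Subtype.ext (Subtype.ext ?_)
    show ((x : Subgroup.centralizer ({z} : Set G)) : G) * (x : Subgroup.centralizer ({z} : Set G)) = 1
    have hz : z * z = 1 := by rw [← pow_two, ← hs.1, pow_orderOf_eq_one]
    rw [← hg]
    calc g * z * g⁻¹ * (g * z * g⁻¹) = g * (z * z) * g⁻¹ := by group
      _ = 1 := by rw [hz]; group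

/-- Commuting with an involution in the class of a shortest vector is orthogonality modulo 2. -/
theorem comm_iff (hs : IsExtraspecialCentralizerSetting z Q 12) (hψ : IsLeechModTwoIso Q e ψ) {t : Q}
    {v : leechLattice} (hv : ψ v = QuotientGroup.mk t) (hn : sqNorm (v : GolayPt → ℤ) = 32) (ht : t * t = 1)
    {x : Q} {w : leechLattice} (hw : ψ w = QuotientGroup.mk x) :
    x * t = t * x ↔ (16 : ℤ) ∣ dotInt (w : GolayPt → ℤ) (v : GolayPt → ℤ) := by
  have hE := hs.2.2.1
  obtain ⟨Z, hZz, hZc, hZ1, hZall⟩ := center_eq hs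
  have hwv : ψ (w + v) = QuotientGroup.mk (x * t) := by rw [hψ.1, hw, hv, QuotientGroup.mk_mul]
  have h1 := sq_iff hs hψ hv hn ht hw
  have h2 := sq_iff hs hψ hv hn ht hwv
  have hsn : sqNorm ((w + v : leechLattice) : GolayPt → ℤ) =
      sqNorm (w : GolayPt → ℤ) + 2 * dotInt (w : GolayPt → ℤ) (v : GolayPt → ℤ) + 32 := by
    rw [AddSubgroup.coe_add, sqNorm_add, hn]
  obtain ⟨d, hd⟩ := eight_dvd_dotInt w.2 v.2
  obtain ⟨k, hk⟩ := sixteen_dvd_sqNorm w.2
  have hsame : (16 : ℤ) ∣ dotInt (w : GolayPt → ℤ) (v : GolayPt → ℤ) ↔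
      ((32 : ℤ) ∣ sqNorm ((w + v : leechLattice) : GolayPt → ℤ) ↔ (32 : ℤ) ∣ sqNorm (w : GolayPt → ℤ)) := by
    rw [hsn, hd, hk]; omega
  rw [hsame, ← h1, ← h2]
  constructor
  · intro hc
    have e1 : x * t * (x * t) = x * x := by
      calc x * t * (x * t) = x * (t * x) * t := by group
        _ = x * x * (t * t) := by rw [← hc]; group
        _ = x * x := by rw [ht, mul_one]
    rw [e1]
  · intro hiff
    by_contra hc
    have hcm := hZall _ (comm_mem hE t x)
    rcases hcm with hcm | hcm
    · exact hc (mul_inv_eq_iff_eq_mul.1 (mul_inv_eq_one.1 hcm)).symm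
    have e1 : x * t * (x * t) = Z * (x * x) := by
      calc x * t * (x * t) = x * (t * x * t⁻¹ * x⁻¹) * x * (t * t) := by group
        _ = x * Z * x := by rw [hcm, ht, mul_one]
        _ = Z * (x * x) := by rw [Subgroup.mem_center_iff.1 hZc x, mul_assoc]
    rw [e1] at hiff
    by_cases hxx : x * x = 1
    · have := hiff.2 hxx
      rw [hxx, mul_one] at this
      exact hZ1 this
    · rcases hZall _ (sq_mem hE x) with h | h
      · exact hxx h
      · refine hxx (hiff.1 ?_)
        rw [h, ← pow_two]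
        exact ThreeTransp.extraspecial_center_sq (hE := hE) hZc

end Cfsg.Agent.Lib.MonsterType
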